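import Cfsg.Agent.Blocks.DegreeSubTwo.Analysis

/-!
# The value at an involution inverting `y`

The value is the trace on the fixed space of `y`, hence an integer bounded by its dimension.
-/

set_option autoImplicit false
set_option linter.unusedSectionVars false

namespace Cfsg.Lib.Blocks.Cyc

open Cfsg.Lib.Chars
open scoped ComplexConjugate Classical

universe u

variable {G : Type u} [Group G] [Fintype G] {p : ℕ} [Fact p.Prime] (C : Cyc G p)

theorem exists_int_apply_invert (hp2 : p ≠ 2) {χ : G → ℂ} (hχ : Cfsg.IsCharacter G χ) {s : G}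
    (hs : s * s = 1) (hinv : ∀ i : ZMod p, s * C.yP i * s⁻¹ = C.yP (-i)) {a : ℕ}
    (ha : (p : ℂ)⁻¹ * ∑ i : ZMod p, χ (C.yP i) = (a : ℂ)) :
    ∃ r : ℤ, χ s = (r : ℂ) ∧ -(a : ℤ) ≤ r ∧ r ≤ a := by
  have hp := (Fact.out : p.Prime)
  have hcl := isClassFunction_isChar hχ
  have h2 : (2 : ZMod p) ≠ 0 := fun e => by
    have hd : p ∣ 2 := (ZMod.natCast_eq_zero_iff 2 p).1 (by exact_mod_cast e)
    exact hp2 ((Nat.prime_dvd_prime_iff_eq hp Nat.prime_two).1 hd)
  -- the conjugates `s yⁱ`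
  have hsy : ∀ i : ZMod p, χ (s * C.yP i) = χ s := by
    intro i
    set j := i * (2 : ZMod p)⁻¹
    have hj : j + j = i := by
      rw [← two_mul, mul_comm, mul_assoc, inv_mul_cancel₀ h2, mul_one]
    have h1 : s * C.yP j = C.yP (-j) * s := by
      rw [← hinv j, inv_mul_cancel_right]
    have h3 : s * C.yP i = C.yP (-j) * s * (C.yP (-j))⁻¹ := by
      rw [← h1, C.yP_neg, inv_inv, mul_assoc, ← C.yP_add, hj]
    rw [h3, hcl]
  obtain ⟨n, ρ, rfl⟩ := hχ
  obtain ⟨E, hE⟩ : ∃ E : Module.End ℂ (Fin n → ℂ), E = (p : ℂ)⁻¹ • ∑ i : ZMod p, ρ (C.yP i) :=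
    ⟨_, rfl⟩
  have hp0 : (p : ℂ) ≠ 0 := Nat.cast_ne_zero.2 hp.ne_zero
  have htr : ∀ g : G, LinearMap.trace ℂ _ (ρ g * E) = (p : ℂ)⁻¹ * ∑ i : ZMod p, ρ.character (g * C.yP i) := by
    intro g
    rw [hE, mul_smul_comm, map_smul, smul_eq_mul, Finset.mul_sum Finset.univ (fun i => ρ (C.yP i)) (ρ g), map_sum]
    exact congrArg _ (Finset.sum_congr rfl fun i _ => by rw [← map_mul]; rfl)
  have hshift : ∀ j : ZMod p, ρ (C.yP j) * E = E := by
    intro j
    rw [hE, mul_smul_comm, Finset.mul_sum]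
    congr 1
    exact Fintype.sum_equiv (Equiv.addLeft j) _ _ fun i => by rw [← map_mul, ← C.yP_add]; rfl
  have hEE : E * E = E := by
    conv_lhs => arg 1; rw [hE]
    rw [smul_mul_assoc, Finset.sum_mul, Finset.sum_congr rfl fun j _ => hshift j, Finset.sum_const,
      Finset.card_univ, ZMod.card, ← Nat.cast_smul_eq_nsmul ℂ, smul_smul, inv_mul_cancel₀ hp0,
      one_smul]
  have hcomm : ρ s * E = E * ρ s := by
    rw [hE, mul_smul_comm, smul_mul_assoc, Finset.mul_sum, Finset.sum_mul]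
    congr 1
    refine Fintype.sum_equiv (Equiv.neg (ZMod p)) _ _ fun i => ?_
    rw [Equiv.neg_apply, ← map_mul, ← map_mul, ← hinv i, inv_mul_cancel_right]
  have hss : ρ s * ρ s = 1 := by rw [← map_mul, hs, map_one]
  have htrE : LinearMap.trace ℂ _ E = (a : ℂ) := by
    have := htr 1
    rw [map_one ρ, one_mul] at this
    rw [this, ← ha]
    simp only [one_mul]
  have htrS : LinearMap.trace ℂ _ (ρ s * E) = ρ.character s := by
    rw [htr, Finset.sum_congr rfl fun i _ => hsy i, Finset.sum_const, Finset.card_univ, ZMod.card,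
      nsmul_eq_mul, ← mul_assoc, inv_mul_cancel₀ hp0, one_mul]
  have hproj : ∀ ε : ℂ, ε * ε = 1 → ∃ q : ℕ, (2 : ℂ)⁻¹ * ((a : ℂ) + ε * ρ.character s) = (q : ℂ) := by
    intro ε hε
    obtain ⟨T, hT⟩ : ∃ T, T = ρ s * E := ⟨_, rfl⟩
    have hTT : T * T = E := by
      calc T * T = ρ s * (E * ρ s) * E := by simp only [hT, mul_assoc]
        _ = ρ s * (ρ s * E) * E := by rw [hcomm]
        _ = ρ s * ρ s * (E * E) := by simp only [mul_assoc]
        _ = E := by rw [hss, hEE, one_mul]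
    have hTE : T * E = T := by rw [hT, mul_assoc, hEE]
    have hET : E * T = T := by rw [hT, ← mul_assoc, ← hcomm, mul_assoc, hEE]
    set Q : Module.End ℂ (Fin n → ℂ) := (2 : ℂ)⁻¹ • (E + ε • T) with hQ
    have hidem : IsIdempotentElem Q := by
      show Q * Q = Q
      simp only [hQ, mul_add, add_mul, smul_mul_assoc, mul_smul_comm, hEE, hTT, hTE, hET,
        smul_smul, smul_add, mul_comm ε]
      rw [show (2 : ℂ)⁻¹ * (2 : ℂ)⁻¹ = (4 : ℂ)⁻¹ by norm_num]
      match_scalars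
      all_goals first | linear_combination (4 : ℂ)⁻¹ * hε | ring
    refine ⟨Module.finrank ℂ (LinearMap.range Q), ?_⟩
    rw [← (LinearMap.IsIdempotentElem.isProj_range Q hidem).trace, hQ, map_smul, map_add, map_smul,
      htrE, hT, htrS, smul_eq_mul, smul_eq_mul]
  obtain ⟨q₁, h₁⟩ := hproj 1 (one_mul 1)
  obtain ⟨q₂, h₂⟩ := hproj (-1) (by norm_num)
  have hsum : (q₁ : ℤ) + q₂ = a := by
    apply Int.cast_injective (α := ℂ)
    push_cast
    linear_combination -h₁ - h₂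
  refine ⟨(q₁ : ℤ) - q₂, ?_, by omega, by omega⟩
  show ρ.character s = _
  push_cast
  linear_combination h₁ - h₂

end Cfsg.Lib.Blocks.Cyc
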