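import Cfsg.Agent.Blocks.DegreeSubTwo.SelfCentralizing

/-!
# Faithful characters of degree `p - 2`
-/

set_option autoImplicit false
set_option linter.unusedSectionVars false
set_option maxHeartbeats 800000

namespace Cfsg.Lib.Blocks.DegreeSubTwo

open Cfsg.Lib.Chars
open scoped ComplexConjugate Classical

universe u

variable {G : Type u} [Group G] [Fintype G] {p : ℕ} [Fact p.Prime]

/-- A group with a nonnormal Sylow subgroup of order `p > 5` and a faithful irreducible character
of degree `p - 2` is `SL(2, 2^a)` times its centre. -/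
theorem iso_sl_prod_center (hp : 5 < p) (P : Sylow p G) (hP : Nat.card P = p)
    (hnn : ¬ (P : Subgroup G).Normal) (ζ : IrrCharacter G)
    (hfaith : ∀ g, (ζ : G → ℂ) g = (ζ : G → ℂ) 1 → g = 1) (hd : deg (ζ : G → ℂ) + 2 = p) :
    ∃ (a : ℕ) (F : Type) (_ : Field F) (_ : Fintype F), p = 2 ^ a + 1 ∧ Fintype.card F = 2 ^ a ∧
      Nonempty (G ≃* Matrix.SpecialLinearGroup (Fin 2) F × Subgroup.center G) := by
  have hpp := (Fact.out : p.Prime)
  obtain ⟨MI, hM⟩ := exists_isPModular hpp
  have hζc := isCharacter_of_irr ζ.2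
  have hdiv : p ∣ Nat.card G := by
    have := Subgroup.card_subgroup_dvd_card (P : Subgroup G)
    rwa [hP] at this
  have hsq : ¬ p ^ 2 ∣ Nat.card G := fun hc => by
    rw [← (P : Subgroup G).card_mul_index, hP, pow_two] at hc
    exact P.not_dvd_index (Nat.dvd_of_mul_dvd_mul_left hpp.pos hc)
  obtain ⟨C, hC⟩ := exists_cyc hdiv hsq P
  -- `y` is not central
  have hncen : C.y ∉ Subgroup.center G := fun h => hnn (by
    rw [← hC]
    refine ⟨fun x hx g => ?_⟩
    rw [Subgroup.mem_center_iff.1 (Subgroup.zpowers_le.2 h hx) g, mul_inv_cancel_right]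
    exact hx)
  have hactG : ∃ h : C.H, C.act h ≠ 1 := by
    by_contra hall
    push Not at hall
    exact hncen (y_mem_center_of_act_trivial C hζc hfaith hd.le hall)
  have hy1 : C.y ≠ 1 := fun e => hncen (e ▸ one_mem _)
  obtain ⟨θ, w, hθ1, hact, hneg, -, hval⟩ := C.exceptional_shape hM ζ hd hactG
    fun e => hy1 (hfaith _ e)
  have hn0 : (2 : ℕ) ≤ p := by omega
  have hζ1 : (ζ : G → ℂ) 1 = (deg (ζ : G → ℂ) : ℂ) := irr_apply_one_eq_deg _
  have hVval : ∀ v : C.V, (ζ : G → ℂ) ((v : C.H) : G) = (θ : C.V → ℂ) v * (deg (ζ : G → ℂ) : ℂ) := by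
    intro v
    rw [← C.el_zero, hval, if_pos rfl, mul_zero, neg_zero, AddChar.map_zero_eq_one]
    congr 1
    rw [← hd]; push_cast; ring
  have hVc : ∀ v : C.V, ((v : C.H) : G) ∈ Subgroup.center G := fun v =>
    mem_center_of_norm hζc hfaith (by
      rw [hVval, norm_mul, norm_linear (isCharacter_of_irr θ.2) hθ1, one_mul, Complex.norm_natCast])
  -- the centre
  have hcenter : ∀ z ∈ Subgroup.center G, ∃ v : C.V, ((v : C.H) : G) = z := by
    intro z hz
    obtain ⟨i, v, rfl⟩ := C.exists_el (g := z)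
      (Subgroup.mem_centralizer_singleton_iff.2 (Subgroup.mem_center_iff.1 hz C.y).symm)
    refine ⟨v, ?_⟩
    suffices hi : i = 0 by rw [hi, C.el_zero]
    by_contra hi
    apply hncen
    have h1 : C.yP i ∈ Subgroup.center G := by
      rw [show C.yP i = C.el i v * ((v : C.H) : G)⁻¹ by rw [Cyc.el, mul_inv_cancel_right]]
      exact mul_mem hz (inv_mem (hVc v))
    have h2 := Subgroup.pow_mem _ h1 i⁻¹.val
    rwa [C.yP_pow, ZMod.natCast_zmod_val, inv_mul_cancel₀ hi, C.yP_one] at h2
  -- the normal closure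
  set M : Subgroup G := Subgroup.normalClosure {C.y} with hMdef
  have : M.Normal := Subgroup.normalClosure_normal
  have : Fintype M := Fintype.ofFinite M
  have hyM : C.y ∈ M := Subgroup.subset_normalClosure rfl
  set ym : M := ⟨C.y, hyM⟩ with hym
  obtain ⟨D, hD⟩ := exists_cyc_zpowers (G := M) (y := ym)
    (by rw [← Subgroup.orderOf_coe]; exact C.order)
    (fun h => hsq (h.trans (Subgroup.card_subgroup_dvd_card M)))
  have hymD : ym ∈ Subgroup.zpowers D.y := hD.symm ▸ Subgroup.mem_zpowers _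
  have hDy : D.y ∈ Subgroup.zpowers ym := hD ▸ Subgroup.mem_zpowers _
  set f : M → ℂ := fun m => (ζ : G → ℂ) m with hf
  have hfc : Cfsg.IsCharacter M f := IsCharacter.restrict hζc M
  have hff : ∀ m, f m = f 1 → m = 1 := fun m hm => Subtype.ext (hfaith _ (by simpa [hf] using hm))
  have hfd : deg f = deg (ζ : G → ℂ) := by unfold deg; rfl
  have hactM : ∃ h : D.H, D.act h ≠ 1 := by
    by_contra hall
    push Not at hall
    have h1 := y_mem_center_of_act_trivial D hfc hff (by omega) hall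
    have h2 : ym ∈ Subgroup.center M := Subgroup.zpowers_le.2 h1 hymD
    apply hnn
    rw [← hC]
    refine ⟨fun x hx g => ?_⟩
    obtain ⟨i, rfl⟩ := C.mem_zpowers_iff.1 hx
    refine mem_zpowers_of_commute C ?_ ?_
    · rw [conj_pow, C.yP_pow, ZMod.natCast_self, zero_mul, C.yP_zero, mul_one, mul_inv_cancel]
    · have hmem : g * C.yP i * g⁻¹ ∈ M := Subgroup.normalClosure_normal.conj_mem _
        (Subgroup.pow_mem _ hyM _) g
      exact congrArg Subtype.val (Subgroup.mem_center_iff.1 h2 ⟨_, hmem⟩)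
  -- an element of `M` inverting `y`
  obtain ⟨n, hnM, hninv⟩ : ∃ n ∈ M, ∀ i : ZMod p, n * C.yP i * n⁻¹ = C.yP (-i) := by
    obtain ⟨h, hh⟩ := hactM
    refine ⟨((h : M) : G), (h : M).2, ?_⟩
    have hnorm : ((h : M) : G) ∈ Subgroup.normalizer (Subgroup.zpowers C.y : Set G) := by
      have h1 : (h : M) ∈ Subgroup.normalizer (Subgroup.zpowers D.y : Set M) := D.le_norm h.2
      rw [hD] at h1
      have hmap : Subgroup.zpowers C.y = (Subgroup.zpowers ym).map M.subtype := by
        rw [MonoidHom.map_zpowers]; rfl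
      rw [hmap]
      exact Subgroup.le_normalizer_map M.subtype ⟨_, h1, rfl⟩
    obtain ⟨h₀, hh₀⟩ := exists_act_of_norm C hnorm
    rcases hact h₀ with e | e
    · exfalso
      apply hh
      apply Units.ext
      apply D.yP_injective
      rw [Units.val_one, ← mul_one (D.act h : ZMod p), ← D.conj_yP]
      refine Subtype.ext ?_
      obtain ⟨k, hk⟩ := Subgroup.mem_zpowers_iff.1 (show D.yP 1 ∈ Subgroup.zpowers ym from
        hD ▸ D.mem_zpowers_iff.2 ⟨1, rfl⟩)
      have h1 := hh₀ 1
      rw [e, Units.val_one, one_mul, C.yP_one, mul_inv_eq_iff_eq_mul] at h1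
      rw [Subgroup.coe_mul, Subgroup.coe_mul, Subgroup.coe_inv, ← hk, SubgroupClass.coe_zpow,
        (Commute.zpow_right (show Commute ((h : M) : G) C.y from h1) k).eq, mul_inv_cancel_right]
    · intro i
      rw [hh₀, e, Units.val_neg, Units.val_one, neg_one_mul]
  -- `G = M V`
  have hMV : ∀ g : G, ∃ (m : M) (v : C.V), (m : G) * ((v : C.H) : G) = g := by
    intro g
    have hcov : ∀ x ∈ Subgroup.normalizer ((P : Subgroup G) : Set G),
        ∃ (m : M) (v : C.V), (m : G) * ((v : C.H) : G) = x := by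
      intro x hx
      rw [← hC] at hx
      have key : ∀ z : G, Commute z C.y → ∃ (m : M) (v : C.V), (m : G) * ((v : C.H) : G) = z := by
        intro z hz
        obtain ⟨i, v, rfl⟩ := C.exists_el (Subgroup.mem_centralizer_singleton_iff.2 hz)
        exact ⟨⟨C.yP i, Subgroup.pow_mem _ hyM _⟩, v, rfl⟩
      obtain ⟨h₀, hh₀⟩ := exists_act_of_norm C hx
      have h1 := hh₀ 1
      rw [mul_one, C.yP_one, mul_inv_eq_iff_eq_mul] at h1
      rcases hact h₀ with e | e
      · rw [e, Units.val_one, C.yP_one] at h1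
        exact key x h1
      · rw [e, Units.val_neg, Units.val_one, C.yP_neg, C.yP_one] at h1
        have h2 := hninv 1
        rw [C.yP_one, C.yP_neg, C.yP_one, mul_inv_eq_iff_eq_mul] at h2
        obtain ⟨m, v, hmv⟩ := key (n⁻¹ * x) (by
          show n⁻¹ * x * C.y = C.y * (n⁻¹ * x)
          apply mul_left_cancel (a := n)
          rw [← mul_assoc n (n⁻¹ * x), mul_inv_cancel_left, h1, ← mul_assoc n C.y, h2, mul_assoc C.y⁻¹,
            mul_inv_cancel_left])
        exact ⟨⟨n, hnM⟩ * m, v, by rw [Subgroup.coe_mul, mul_assoc, hmv, mul_inv_cancel_left]⟩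
    have hle : (P : Subgroup G) ≤ M := by rw [← hC]; exact Subgroup.zpowers_le.2 hyM
    have htop := Sylow.normalizer_sup_eq_top' P hle
    have hg : g ∈ M ⊔ Subgroup.normalizer ((P : Subgroup G) : Set G) := by
      rw [sup_comm]; rw [Sylow.coe_coe] at *; rw [htop]; trivial
    obtain ⟨a, ha, b, hb, rfl⟩ := Subgroup.mem_sup_of_normal_left.1 hg
    obtain ⟨m, v, rfl⟩ := hcov b hb
    exact ⟨⟨a, ha⟩ * m, v, by rw [Subgroup.coe_mul, mul_assoc]⟩
  -- irreducibility on `M`
  have : Fintype C.V := Fintype.ofFinite _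
  have hfi : Cfsg.IsIrrCharacter M f := by
    let π : M × C.V →* G :=
      { toFun := fun x => (x.1 : G) * ((x.2 : C.H) : G)
        map_one' := by simp
        map_mul' := fun x y => by
          simp only [Prod.fst_mul, Prod.snd_mul, Subgroup.coe_mul]
          rw [mul_assoc (x.1 : G) ((x.2 : C.H) : G), ← mul_assoc ((x.2 : C.H) : G) (y.1 : G),
            ← Subgroup.mem_center_iff.1 (hVc x.2) (y.1 : G)]
          simp only [mul_assoc] }
    have hπ : Function.Surjective π := fun g => by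
      obtain ⟨m, v, e⟩ := hMV g
      exact ⟨(m, v), e⟩
    have hirr := classInner_self_irr (IsIrrCharacter.comp_surjective ζ.2 π hπ)
    refine isIrrCharacter_of_norm_one hfc (Eq.trans ?_ hirr)
    have hpt : ∀ (m : M) (v : C.V), (ζ : G → ℂ) (π (m, v)) * conj ((ζ : G → ℂ) (π (m, v))) =
        f m * conj (f m) := by
      intro m v
      show (ζ : G → ℂ) ((m : G) * ((v : C.H) : G)) * conj _ = _
      have hu : (θ : C.V → ℂ) v * conj ((θ : C.V → ℂ) v) = 1 := by
        rw [Complex.mul_conj', norm_linear (isCharacter_of_irr θ.2) hθ1]; simp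
      have hne : (deg (ζ : G → ℂ) : ℂ) ≠ 0 := Nat.cast_ne_zero.2 (deg_irr_pos ζ).ne'
      rw [Subgroup.mem_center_iff.1 (hVc v) (m : G)]
      show (ζ : G → ℂ) (((v : C.H) : G) * (m : G)) * conj ((ζ : G → ℂ) ((m : G) * ((v : C.H) : G))) = _
      rw [Subgroup.mem_center_iff.1 (hVc v) (m : G), apply_mul_central ζ (hVc v), hVval, hζ1,
        mul_div_assoc, div_self hne, mul_one, map_mul, mul_mul_mul_comm, hu, one_mul]
    rw [classInner_def, classInner_def, Fintype.sum_prod_type]
    simp only [hpt, Finset.sum_const, Finset.card_univ, nsmul_eq_mul, ← Finset.mul_sum,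
      Nat.card_prod, ← Nat.card_eq_fintype_card]
    have : (Nat.card C.V : ℂ) ≠ 0 := Nat.cast_ne_zero.2 Nat.card_pos.ne'
    push_cast
    field_simp
  set ζM : IrrCharacter M := ⟨f, hfi⟩ with hζM
  have hdM : deg (ζM : M → ℂ) + 2 = p := by rw [show (ζM : M → ℂ) = f from rfl, hfd]; exact hd
  have hDy1 : D.y ≠ 1 := fun e => by
    have := D.order
    rw [e, orderOf_one] at this
    omega
  obtain ⟨θM, wM, hθM1, hactD, hnegD, hbD, hvalD⟩ := D.exceptional_shape hM ζM hdM hactM
    fun e => hDy1 (hff _ e)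
  have hDval : ∀ v : D.V, f ((v : D.H) : M) = (θM : D.V → ℂ) v * (deg f : ℂ) := by
    intro v
    have h1 := hvalD 0 v
    rw [D.el_zero, if_pos rfl, mul_zero, neg_zero, AddChar.map_zero_eq_one] at h1
    rw [show (ζM : M → ℂ) = f from rfl] at h1 hdM
    rw [h1]
    congr 1
    rw [← hdM]; push_cast; ring
  have hDc : ∀ v : D.V, ((v : D.H) : M) ∈ Subgroup.center M := fun v =>
    mem_center_of_norm hfc hff (by
      rw [hDval, norm_mul, norm_linear (isCharacter_of_irr θM.2) hθM1, one_mul, Complex.norm_natCast])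
  have hinj : ∀ v : D.V, (θM : D.V → ℂ) v = 1 → v = 1 := fun v hv => by
    refine Subtype.ext (Subtype.ext (hff _ ?_))
    rw [hDval, hv, one_mul, hfd, ← hζ1]
    rfl
  have hperf : ∀ g : M →* ℂˣ, g = 1 := by
    intro g
    have hgy : g ym = 1 := by
      have hc : (⟨n, hnM⟩ : M) * ym * (⟨n, hnM⟩ : M)⁻¹ = ym⁻¹ := Subtype.ext (by
        have h2 := hninv 1
        rw [C.yP_one, C.yP_neg, C.yP_one] at h2
        simpa [hym] using h2)
      have e1 := congrArg g hc
      rw [map_mul, map_mul, map_inv, map_inv, mul_comm (g _) (g ym), mul_inv_cancel_right] at e1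
      have e2 : g ym ^ 2 = 1 := by rw [pow_two]; nth_rw 2 [e1]; exact mul_inv_cancel _
      have e3 : g ym ^ p = 1 := by
        rw [← map_pow, show ym ^ p = 1 from Subtype.ext (by simpa [hym] using pow_p_y C), map_one]
      have := pow_gcd_eq_one.2 ⟨e2, e3⟩
      rwa [show Nat.gcd 2 p = 1 from
        (Nat.coprime_primes Nat.prime_two hpp).2 (by omega), pow_one] at this
    have hle : M ≤ g.ker.map M.subtype := by
      show Subgroup.normalClosure {C.y} ≤ _
      rw [Subgroup.normalClosure, Subgroup.closure_le]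
      intro z hz
      obtain ⟨x, hx, hxz⟩ := Group.mem_conjugatesOfSet_iff.1 hz
      rw [Set.mem_singleton_iff] at hx
      subst hx
      obtain ⟨c, rfl⟩ := isConj_iff.1 hxz
      obtain ⟨m, v, rfl⟩ := hMV c
      refine ⟨m * ym * m⁻¹, ?_, ?_⟩
      · show g (m * ym * m⁻¹) = 1
        rw [map_mul, map_mul, map_inv, hgy, mul_one, mul_inv_cancel]
      · show (m : G) * C.y * (m : G)⁻¹ = _
        calc (m : G) * C.y * (m : G)⁻¹ =
            (m : G) * (C.y * ((v : C.H) : G) * ((v : C.H) : G)⁻¹) * (m : G)⁻¹ := by group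
          _ = (m : G) * (((v : C.H) : G) * C.y * ((v : C.H) : G)⁻¹) * (m : G)⁻¹ := by
              rw [Subgroup.mem_center_iff.1 (hVc v) C.y]
          _ = _ := by group
    ext m
    obtain ⟨m', hm', e⟩ := hle m.2
    rw [← Subtype.ext e, show g m' = 1 from hm']
    rfl
  have hodd : Odd (Nat.card D.V) := by
    by_contra hev
    rw [Nat.not_odd_iff_even, even_iff_two_dvd] at hev
    have : Fact (Nat.Prime 2) := ⟨Nat.prime_two⟩
    obtain ⟨v, hv⟩ := exists_prime_orderOf_dvd_card' (G := D.V) 2 hev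
    obtain ⟨m, ρ, hρ⟩ := hfc
    let det : M →* ℂˣ := MonoidHom.toHomUnits ((LinearMap.det).comp ρ)
    have hdet : LinearMap.det (ρ ((v : D.H) : M)) = 1 := by
      have := congrArg Units.val (congrFun (congrArg DFunLike.coe (hperf det)) ((v : D.H) : M))
      exact this
    have hm : deg f = m := by
      rw [← hρ, deg_character, Module.finrank_fintype_fun_eq_card, Fintype.card_fin]
    obtain ⟨c, hc, -⟩ := scalar_of_norm_character_eq ρ ((v : D.H) : M) (by
      rw [hρ, hDval, norm_mul, norm_linear (isCharacter_of_irr θM.2) hθM1, one_mul,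
        Complex.norm_natCast, Module.finrank_fintype_fun_eq_card, Fintype.card_fin, hm])
    have hm0 : (m : ℂ) ≠ 0 := by
      rw [Nat.cast_ne_zero]; omega
    have hcθ : c = (θM : D.V → ℂ) v := by
      have h1 := hDval v
      rw [← hρ] at h1
      rw [Representation.character, hc, map_smul, LinearMap.trace_id,
        Module.finrank_fintype_fun_eq_card, Fintype.card_fin, smul_eq_mul] at h1
      rw [show deg ρ.character = m from by rw [deg_character, Module.finrank_fintype_fun_eq_card, Fintype.card_fin]] at h1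
      exact mul_right_cancel₀ hm0 h1
    rw [hc, LinearMap.det_smul, LinearMap.det_id, mul_one, Module.finrank_fintype_fun_eq_card,
      Fintype.card_fin, hcθ] at hdet
    obtain ⟨φ, hφ⟩ := exists_hom_of_deg_one (isCharacter_of_irr θM.2) hθM1
    have hvm : v ^ m = 1 := hinj _ (by
      rw [hφ]
      rw [hφ] at hdet
      show ((φ (v ^ m) : ℂˣ) : ℂ) = 1
      rw [map_pow, Units.val_pow_eq_pow_val]
      exact hdet)
    rw [← orderOf_dvd_iff_pow_eq_one, hv] at hvm
    obtain ⟨k, hk⟩ : Odd p := hpp.odd_of_ne_two (by omega)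
    omega
  -- an inverting involution
  obtain ⟨h, hh⟩ := hnegD
  set s : M := ((h ^ Nat.card D.V : D.H) : M) with hs
  have hacts : D.act (h ^ Nat.card D.V) = -1 := by rw [map_pow, hh, hodd.neg_one_pow]
  have hss : s * s = 1 := by
    have h2 : D.act (h * h) = 1 := by rw [map_mul, hh, neg_mul_neg, one_mul]
    have h3 : (h * h) ^ Nat.card D.V = 1 :=
      congrArg Subtype.val (pow_card_eq_one' (x := (⟨h * h, h2⟩ : D.V)))
    rw [hs, ← Subgroup.coe_mul, ← (Commute.refl h).mul_pow, h3, OneMemClass.coe_one]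
  have hsinv : ∀ i : ZMod p, s * D.yP i * s⁻¹ = D.yP (-i) := fun i => by
    rw [hs, D.conj_yP, hacts, Units.val_neg, Units.val_one, neg_one_mul]
  have hV1 : ∀ v : D.V, v = 1 := fun v =>
    D.V_eq_one hss hsinv hDc hM (by
      rcases eq_or_ne p 6 with rfl | h6
      · exact absurd hpp (by norm_num)
      · omega) hodd hperf hactD ⟨h, hh⟩ ζM hdM θM wM hθM1 hbD hinj v
  have hθone : (θM : D.V → ℂ) 1 = 1 := hθM1
  obtain ⟨a, F, iF, iFt, hpa, hF, ⟨e⟩⟩ := exists_iso_sl_self D hp hV1 hactD ⟨h, hh⟩ ζM hff hdM wM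
    fun i => by
      have h1 := hvalD i 1
      rwa [D.el_one_right, hθone, one_mul] at h1
  refine ⟨a, F, iF, iFt, hpa, hF, ⟨?_⟩⟩
  let φ : M × Subgroup.center G →* G :=
    { toFun := fun x => (x.1 : G) * (x.2 : G)
      map_one' := by simp
      map_mul' := fun x y => by
        simp only [Prod.fst_mul, Prod.snd_mul, Subgroup.coe_mul]
        rw [mul_assoc (x.1 : G) (x.2 : G), ← mul_assoc (x.2 : G) (y.1 : G),
          ← Subgroup.mem_center_iff.1 x.2.2 (y.1 : G)]
        simp only [mul_assoc] }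
  have hφ : Function.Bijective φ := by
    refine ⟨(injective_iff_map_eq_one φ).2 fun ⟨m, z⟩ hmz => ?_, fun g => ?_⟩
    · have hmz' : (m : G) * (z : G) = 1 := hmz
      have hmc : (m : G) ∈ Subgroup.center G := by
        rw [eq_inv_of_mul_eq_one_left hmz']; exact inv_mem z.2
      have hmy : Commute m D.y := Subtype.ext (Subgroup.mem_center_iff.1 hmc (D.y : G)).symm
      have h1 := mem_zpowers_of_V_trivial D hV1 hmy
      rw [hD] at h1
      obtain ⟨k, hk⟩ := Subgroup.mem_zpowers_iff.1 h1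
      have hmP : (m : G) ∈ Subgroup.zpowers C.y := by
        rw [← hk, SubgroupClass.coe_zpow]
        exact Subgroup.zpow_mem _ (Subgroup.mem_zpowers _) _
      obtain ⟨i, hi⟩ := C.mem_zpowers_iff.1 hmP
      obtain ⟨v, hv⟩ := hcenter _ hmc
      have hi0 : i = 0 := (Prod.mk.inj (C.el_injective (a₁ := (i, (1 : C.V))) (a₂ := (0, v)) (by
        show C.el i 1 = C.el 0 v
        rw [C.el_one_right, C.el_zero, hi, hv]))).1
      rw [hi0, C.yP_zero] at hi
      have hm1 : m = 1 := Subtype.ext hi.symm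
      subst hm1
      rw [OneMemClass.coe_one, one_mul] at hmz'
      exact Prod.ext rfl (Subtype.ext hmz')
    · obtain ⟨m, v, e⟩ := hMV g
      exact ⟨(m, ⟨_, hVc v⟩), e⟩
  exact (MulEquiv.ofBijective φ hφ).symm.trans (MulEquiv.prodCongr e (MulEquiv.refl _))

end Cfsg.Lib.Blocks.DegreeSubTwo
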