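import Mathlib
import Cfsg.Agent.Blocks.OrbitBlock
import Cfsg.Agent.Blocks.OrbitCount
import Cfsg.Agent.Blocks.OrbitFamily

/-!
# Multiplicities of a character of degree at most `p - 2` on the centralizer of an element of order `p`

A character of degree at most `p - 2` has singular multiplicities over a single character of the
complement `V`, and either `y` acts as a scalar or the inertial index is `2` and `V` acts by
scalars.
-/

set_option autoImplicit false
set_option linter.unusedSectionVars false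

namespace Cfsg.Lib.Blocks.Cyc

open Cfsg.Lib.Chars
open scoped ComplexConjugate Classical

universe u

variable {G : Type u} [Group G] [Fintype G] {M : Ideal AlgInt} {p : ℕ} [Fact p.Prime] (C : Cyc G p)

/-- The multiplicity of `λ_k ⊗ θ` in the restriction to `⟨y⟩ × V`. -/
noncomputable def aa (χ : G → ℂ) (θ : C.V → ℂ) (k : ZMod p) : ℂ :=
  (p : ℂ)⁻¹ * ∑ i : ZMod p, C.mu χ θ i * psi p (-(k * i))

lemma bb_eq_aa (χ : G → ℂ) (θ : C.V → ℂ) (k : ZMod p) :
    C.bb χ θ k = C.aa χ θ 0 - C.aa χ θ k := by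
  simp only [bb, aa, zero_mul, neg_zero, AddChar.map_zero_eq_one, mul_one, ← mul_sub,
    ← Finset.sum_sub_distrib]
  simp only [mul_sub, mul_one]

lemma mu_eq_sum_aa (χ : G → ℂ) (θ : C.V → ℂ) (i : ZMod p) :
    C.mu χ θ i = ∑ k : ZMod p, C.aa χ θ k * psi p (k * i) := by
  have h1 : ∀ j k : ZMod p, C.mu χ θ j * psi p (-(k * j)) * psi p (k * i) =
      C.mu χ θ j * psi p (k * (i - j)) := fun j k => by
    rw [mul_assoc, ← AddChar.map_add_eq_mul]
    congr 2
    ring
  simp only [aa, mul_assoc (p : ℂ)⁻¹, ← Finset.mul_sum, Finset.sum_mul, h1]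
  rw [Finset.sum_comm]
  simp only [← Finset.mul_sum, sum_psi_mul, sub_eq_zero, mul_ite, mul_zero]
  rw [Finset.sum_ite_eq, if_pos (Finset.mem_univ _)]
  have : (p : ℂ) ≠ 0 := Nat.cast_ne_zero.2 (Fact.out : p.Prime).ne_zero
  field_simp

lemma exists_nat_aa {χ : G → ℂ} (hχ : Cfsg.IsCharacter G χ) {θ : C.V → ℂ}
    (hθ : Cfsg.IsIrrCharacter C.V θ) (k : ZMod p) : ∃ a : ℕ, C.aa χ θ k = (a : ℂ) := by
  let emb : Multiplicative (ZMod p) × C.V →* G := C.Cs.subtype.comp C.csEquiv.toMonoidHom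
  let l : Multiplicative (ZMod p) × C.V →* ℂˣ :=
    (MonoidHom.toHomUnits ((psi p).mulShift k).toMonoidHom).comp (MonoidHom.fst _ _)
  have hirr := IsIrrCharacter.mul_linear
    (IsIrrCharacter.comp_surjective hθ (MonoidHom.snd (Multiplicative (ZMod p)) C.V)
      (fun v => ⟨(1, v), rfl⟩)) l
  obtain ⟨a, ha⟩ := IsCharacter.exists_mult (IsCharacter.comp_hom hχ emb) hirr
  refine ⟨a, ?_⟩
  rw [← ha, classInner_def, Nat.card_prod, Nat.card_congr Multiplicative.toAdd, Nat.card_zmod,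
    Fintype.sum_prod_type, aa]
  simp only [mu, Finset.mul_sum, Finset.sum_mul]
  refine Fintype.sum_equiv Multiplicative.ofAdd _ _ fun i => Finset.sum_congr rfl fun v _ => ?_
  show _ = _ * (χ ((C.csEquiv (Multiplicative.ofAdd i, v) : C.Cs) : G) *
    conj ((l (Multiplicative.ofAdd i, v) : ℂ) * θ v))
  rw [C.csEquiv_apply, map_mul,
    show (l (Multiplicative.ofAdd i, v) : ℂ) = psi p (k * i) from rfl, psi_conj]
  push_cast
  rw [mul_inv]
  ring

/-- The multiplicities as natural numbers. -/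
noncomputable def aN (χ : IrrCharacter G) (θ : IrrCharacter C.V) (k : ZMod p) : ℕ :=
  Classical.choose (C.exists_nat_aa (isCharacter_of_irr χ.2) θ.2 k)

lemma aa_eq (χ : IrrCharacter G) (θ : IrrCharacter C.V) (k : ZMod p) :
    C.aa (χ : G → ℂ) (θ : C.V → ℂ) k = (C.aN χ θ k : ℂ) :=
  Classical.choose_spec (C.exists_nat_aa (isCharacter_of_irr χ.2) θ.2 k)

lemma bI_eq_aN (χ : IrrCharacter G) (θ : IrrCharacter C.V) (k : ZMod p) :
    C.bI χ θ k = (C.aN χ θ 0 : ℤ) - C.aN χ θ k := by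
  apply Int.cast_injective (α := ℂ)
  rw [← C.bb_eq, bb_eq_aa, aa_eq, aa_eq]
  push_cast
  rfl

lemma aN_conjI (χ : IrrCharacter G) (θ : IrrCharacter C.V) (h : C.H) (k : ZMod p) :
    C.aN χ (C.conjI h θ) ((C.act h : ZMod p) * k) = C.aN χ θ k := by
  apply Nat.cast_injective (R := ℂ)
  rw [← C.aa_eq, ← C.aa_eq, aa, aa]
  congr 1
  refine Fintype.sum_equiv (Equiv.mulLeft₀ (C.act h : ZMod p) (C.act h).ne_zero) _ _ fun i => ?_
  show C.mu _ (conjN C.V h (θ : C.V → ℂ)) i * _ = _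
  rw [C.mu_conj (isClassFunction_irr χ), Equiv.mulLeft₀_apply]
  congr 2
  ring

lemma aN_conjI_zero (χ : IrrCharacter G) (θ : IrrCharacter C.V) (h : C.H) :
    C.aN χ (C.conjI h θ) 0 = C.aN χ θ 0 := by
  have := C.aN_conjI χ θ h 0
  rwa [mul_zero] at this

lemma apply_el (χ : IrrCharacter G) (i : ZMod p) (v : C.V) :
    (χ : G → ℂ) (C.el i v) = ∑ θ : IrrCharacter C.V, ∑ k : ZMod p,
      (C.aN χ θ k : ℂ) * psi p (k * i) * (θ : C.V → ℂ) v := by
  rw [C.apply_el_eq_sum (isClassFunction_irr χ)]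
  refine Finset.sum_congr rfl fun θ _ => ?_
  rw [C.mu_eq_sum_aa, Finset.sum_mul]
  simp only [C.aa_eq]

lemma deg_eq_sum (χ : IrrCharacter G) :
    deg (χ : G → ℂ) = ∑ θ : IrrCharacter C.V, deg (θ : C.V → ℂ) * ∑ k : ZMod p, C.aN χ θ k := by
  apply Nat.cast_injective (R := ℂ)
  have h := C.apply_el χ 0 1
  rw [C.el_zero, OneMemClass.coe_one, OneMemClass.coe_one, irr_apply_one_eq_deg] at h
  rw [h]
  push_cast
  refine Finset.sum_congr rfl fun θ _ => ?_
  rw [Finset.mul_sum]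
  refine Finset.sum_congr rfl fun k _ => ?_
  rw [mul_zero, AddChar.map_zero_eq_one, irr_apply_one_eq_deg]
  ring

lemma sum_units_eq {R : Type*} [AddCommMonoid R] (f : ZMod p → R) :
    ∑ k, f k = f 0 + ∑ u : (ZMod p)ˣ, f u := by
  rw [← Finset.add_sum_erase _ _ (Finset.mem_univ (0 : ZMod p))]
  congr 1
  exact Finset.sum_bij (fun k hk => Units.mk0 k (Finset.mem_erase.1 hk).1)
    (fun _ _ => Finset.mem_univ _) (fun a _ b _ e => congrArg Units.val e)
    (fun u _ => ⟨u, Finset.mem_erase.2 ⟨u.ne_zero, Finset.mem_univ _⟩, Units.ext rfl⟩)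
    fun _ _ => rfl

lemma card_coset (E : Subgroup (ZMod p)ˣ) (u : (ZMod p)ˣ) :
    (Finset.univ.filter fun v : (ZMod p)ˣ => u⁻¹ * v ∈ E).card = Nat.card E := by
  rw [Nat.card_eq_fintype_card, Fintype.card_subtype]
  exact Finset.card_bij (fun v _ => u⁻¹ * v)
    (fun v hv => Finset.mem_filter.2 ⟨Finset.mem_univ _, (Finset.mem_filter.1 hv).2⟩)
    (fun a _ b _ e => mul_left_cancel e)
    fun w hw => ⟨u * w, Finset.mem_filter.2 ⟨Finset.mem_univ _, by
      rw [inv_mul_cancel_left]; exact (Finset.mem_filter.1 hw).2⟩, inv_mul_cancel_left u w⟩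

/-- A function invariant under a subgroup of the units has sum divisible by its order. -/
lemma card_dvd_sum (A : Subgroup (ZMod p)ˣ) (c : (ZMod p)ˣ → ℕ)
    (hc : ∀ a ∈ A, ∀ u, c (a * u) = c u) : Nat.card A ∣ ∑ u, c u := by
  have h : ∑ u, c u = ∑ x : ((ZMod p)ˣ ⧸ A) × A, c x.1.out := by
    refine (Equiv.sum_comp (Subgroup.groupEquivQuotientProdSubgroup (s := A)).symm c).symm.trans ?_
    refine Finset.sum_congr rfl fun x _ => ?_
    set v := (Subgroup.groupEquivQuotientProdSubgroup (s := A)).symm x with hv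
    have hx : (v : (ZMod p)ˣ ⧸ A) = x.1 :=
      congrArg Prod.fst ((Subgroup.groupEquivQuotientProdSubgroup (s := A)).apply_symm_apply x)
    obtain ⟨w, hw⟩ := QuotientGroup.mk_out_eq_mul A v
    rw [← hx, hw, mul_comm v, hc _ w.2]
  rw [h, Fintype.sum_prod_type]
  simp only [Finset.sum_const, Finset.card_univ, smul_eq_mul, ← Finset.mul_sum,
    ← Nat.card_eq_fintype_card]
  exact dvd_mul_right _ _

lemma deg_conjI (h : C.H) (θ : IrrCharacter C.V) :
    deg (C.conjI h θ : C.V → ℂ) = deg (θ : C.V → ℂ) := by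
  apply Nat.cast_injective (R := ℂ)
  rw [← irr_apply_one_eq_deg, ← irr_apply_one_eq_deg, C.conjI_one]

lemma ne_zero_deg_V (θ : IrrCharacter C.V) : 1 ≤ deg (θ : C.V → ℂ) := deg_irr_pos θ

/-- The two shapes of the multiplicities over the character with singular part. -/
theorem small_shape (hM : IsPModular p M) (χ : IrrCharacter G) (hd : deg (χ : G → ℂ) + 2 ≤ p) :
    ∃ θ : IrrCharacter C.V,
      (∀ θ' k, C.aN χ θ' k ≠ 0 → ∃ h : C.H, C.conjI h θ = θ') ∧
      deg (θ : C.V → ℂ) * (∑ k, C.aN χ θ k) ≤ deg (χ : G → ℂ) ∧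
      ((C.aN χ θ 0 = 0 ∧ ∃ w : (ZMod p)ˣ, ∀ v : (ZMod p)ˣ,
          C.aN χ θ (v : ZMod p) = if w⁻¹ * v ∈ C.E (θ : C.V → ℂ) then 1 else 0) ∨
       (C.aN χ θ 0 = 1 ∧ ∀ v : (ZMod p)ˣ, C.aN χ θ (v : ZMod p) = 0) ∨
       (C.aN χ θ 0 = 1 ∧ 2 * C.ee (θ : C.V → ℂ) ≤ p - 1 ∧ ∃ w : (ZMod p)ˣ, ∀ v : (ZMod p)ˣ,
          C.aN χ θ (v : ZMod p) = if w⁻¹ * v ∈ C.E (θ : C.V → ℂ) then 0 else 1)) := by
  have hp := (Fact.out : p.Prime)
  have hterm : ∀ θ' : IrrCharacter C.V,
      deg (θ' : C.V → ℂ) * ∑ k, C.aN χ θ' k ≤ deg (χ : G → ℂ) := fun θ' => by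
    rw [C.deg_eq_sum χ]
    exact Finset.single_le_sum (f := fun θ : IrrCharacter C.V =>
      deg (θ : C.V → ℂ) * ∑ k, C.aN χ θ k) (fun _ _ => Nat.zero_le _) (Finset.mem_univ θ')
  have hsum : ∀ θ' : IrrCharacter C.V, ∑ k, C.aN χ θ' k ≤ deg (χ : G → ℂ) := fun θ' =>
    (Nat.le_mul_of_pos_left _ (C.ne_zero_deg_V θ')).trans (hterm θ')
  have hnon : ∀ θ' k, ¬ C.Lies χ θ' → C.aN χ θ' k = 0 := by
    intro θ' k hl
    have hconst : ∀ j, C.aN χ θ' j = C.aN χ θ' 0 := fun j => by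
      by_cases hj : j = 0
      · rw [hj]
      have h0 : C.bI χ θ' j = 0 := by
        by_contra h0
        exact hl ⟨Units.mk0 j hj, h0⟩
      rw [bI_eq_aN] at h0
      omega
    have h := hsum θ'
    rw [Finset.sum_congr rfl fun j _ => hconst j, Finset.sum_const, Finset.card_univ, ZMod.card,
      smul_eq_mul] at h
    rw [hconst k]
    by_contra h0
    have := (Nat.le_mul_of_pos_right p (Nat.pos_of_ne_zero h0)).trans h
    omega
  obtain ⟨θ, hθ⟩ : ∃ θ, C.Lies χ θ := by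
    by_contra hall
    push Not at hall
    have h := C.deg_eq_sum χ
    rw [Finset.sum_eq_zero fun θ' _ => by
      rw [Finset.sum_eq_zero fun k _ => hnon θ' k (hall θ'), mul_zero]] at h
    have := deg_irr_pos χ
    omega
  refine ⟨θ, fun θ' k hk => ?_, hterm θ, ?_⟩
  · exact C.conjI_of_lies hM hθ (by_contra fun hl => hk (hnon θ' k hl))
  obtain ⟨ν, δ, hD⟩ := C.exists_orbitData hM θ
  have hs := hsum θ
  rw [sum_units_eq] at hs
  have hbig : ∀ c, 1 ≤ c → (∀ v : (ZMod p)ˣ, C.aN χ θ (v : ZMod p) = c) → False := fun c hc h => by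
    rw [Finset.sum_congr rfl fun v _ => h v, Finset.sum_const, Finset.card_univ, ZMod.card_units,
      smul_eq_mul] at hs
    have := Nat.le_mul_of_pos_right (p - 1) hc
    omega
  have hconstcase : ∀ c : ℤ, c ≠ 0 → c.natAbs ≤ 1 →
      (∀ v : (ZMod p)ˣ, C.bI χ θ (v : ZMod p) = c) →
      C.aN χ θ 0 = 1 ∧ ∀ v : (ZMod p)ˣ, C.aN χ θ (v : ZMod p) = 0 := by
    intro c hc0 hc1 hb
    have ha : ∀ v : (ZMod p)ˣ, (C.aN χ θ (v : ZMod p) : ℤ) = C.aN χ θ 0 - c := fun v => by
      have := hb v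
      rw [bI_eq_aN] at this
      omega
    by_cases h1 : C.aN χ θ 0 = 1 ∧ c = 1
    · exact ⟨h1.1, fun v => by have := ha v; omega⟩
    exfalso
    have h1' := ha 1
    exact hbig (((C.aN χ θ 0 : ℤ) - c).toNat) (by omega) fun v => by have := ha v; omega
  by_cases hr : χ ∈ Set.range ν
  · obtain ⟨w, rfl⟩ := hr
    set E := C.E (θ : C.V → ℂ) with hE
    by_cases htop : E = ⊤
    · refine Or.inr (Or.inl (hconstcase (-δ) ?_ ?_ fun v => ?_))
      · rcases hD.sign with h | h <;> omega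
      · rcases hD.sign with h | h <;> omega
      · rw [hD.bI_exc, if_pos (by rw [← hE, htop]; trivial)]
    have hidx : 2 ≤ E.index := by
      have h0 : E.index ≠ 0 := Subgroup.index_ne_zero_of_finite
      have h1 : E.index ≠ 1 := fun h => htop (Subgroup.index_eq_one.1 h)
      omega
    have he : 2 * C.ee (θ : C.V → ℂ) ≤ p - 1 :=
      C.index_E_mul (θ : C.V → ℂ) ▸ Nat.mul_le_mul_right _ hidx
    have hb : ∀ v : (ZMod p)ˣ, (C.aN (ν w) θ (v : ZMod p) : ℤ) =
        C.aN (ν w) θ 0 + if w⁻¹ * v ∈ E then δ else 0 := fun v => by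
      have := hD.bI_exc w v
      rw [bI_eq_aN] at this
      split_ifs at this ⊢ <;> omega
    rcases Nat.eq_zero_or_pos (C.aN (ν w) θ 0) with h0 | h0
    · refine Or.inl ⟨h0, w, fun v => ?_⟩
      have hδ : δ = 1 := by
        have h1 := hb w
        rw [inv_mul_cancel, if_pos (one_mem _), h0] at h1
        rcases hD.sign with h | h <;> omega
      have := hb v
      rw [h0, hδ] at this
      split_ifs at this ⊢ <;> omega
    · obtain ⟨hδ, h1⟩ : δ = -1 ∧ C.aN (ν w) θ 0 = 1 := by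
        have h2 : ∑ v : (ZMod p)ˣ, (C.aN (ν w) θ (v : ZMod p) : ℤ) =
            ((p - 1 : ℕ) : ℤ) * C.aN (ν w) θ 0 + δ * C.ee (θ : C.V → ℂ) := by
          rw [Finset.sum_congr rfl fun v _ => hb v, Finset.sum_add_distrib, Finset.sum_const,
            Finset.card_univ, ZMod.card_units, nsmul_eq_mul, ← Finset.sum_filter, Finset.sum_const,
            nsmul_eq_mul, card_coset, mul_comm δ]
          rfl
        have h3 : (C.aN (ν w) θ 0 : ℤ) + ∑ v : (ZMod p)ˣ, (C.aN (ν w) θ (v : ZMod p) : ℤ) ≤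
            (deg (ν w : G → ℂ) : ℤ) := by exact_mod_cast hs
        rw [h2] at h3
        have hpz : ((p - 1 : ℕ) : ℤ) = (p : ℤ) - 1 := by
          rw [Nat.cast_sub hp.one_le, Nat.cast_one]
        have he' : 2 * (C.ee (θ : C.V → ℂ) : ℤ) ≤ (p : ℤ) - 1 := by
          rw [← hpz]; exact_mod_cast he
        have hdz : (deg (ν w : G → ℂ) : ℤ) + 2 ≤ p := by exact_mod_cast hd
        rcases hD.sign with h | h <;> subst h
        · have : (p : ℤ) * 1 ≤ p * C.aN (ν w) θ 0 :=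
            mul_le_mul_of_nonneg_left (by omega) (by omega)
          rw [hpz, sub_mul, one_mul, one_mul] at h3
          omega
        · refine ⟨rfl, ?_⟩
          by_contra hne
          have : (p : ℤ) * 2 ≤ p * C.aN (ν w) θ 0 :=
            mul_le_mul_of_nonneg_left (by omega) (by omega)
          rw [hpz, sub_mul, one_mul, neg_one_mul] at h3
          omega
      refine Or.inr (Or.inr ⟨h1, he, w, fun v => ?_⟩)
      have := hb v
      rw [h1, hδ] at this
      split_ifs at this ⊢ <;> omega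
  · refine Or.inr (Or.inl (hconstcase (C.bI χ θ 1) ?_ (hD.abs_ord χ hr) (hD.bI_ord χ hr)))
    intro h0
    obtain ⟨v, hv⟩ := hθ
    exact hv ((hD.bI_ord χ hr v).trans h0)

lemma conjI_eq_self_of_act {θ : IrrCharacter C.V} {h : C.H} (hh : C.act h = 1) :
    C.conjI h θ = θ :=
  Subtype.ext (conjN_of_mem (isClassFunction_irr θ) (⟨h, hh⟩ : C.V))

/-- If the normalizer centralizes `y`, then `y` acts as a scalar. -/
theorem norm_apply_y_of_act_trivial (hM : IsPModular p M) (χ : IrrCharacter G)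
    (hd : deg (χ : G → ℂ) + 2 ≤ p) (hact : ∀ h : C.H, C.act h = 1) :
    ‖(χ : G → ℂ) C.y‖ = (deg (χ : G → ℂ) : ℝ) := by
  have hp := (Fact.out : p.Prime)
  obtain ⟨θ, hoth, hle, hcase⟩ := C.small_shape hM χ hd
  have honly : ∀ θ' k, θ' ≠ θ → C.aN χ θ' k = 0 := fun θ' k hne => by
    by_contra h0
    obtain ⟨h, rfl⟩ := hoth θ' k h0
    exact hne (C.conjI_eq_self_of_act (hact h))
  have hE : ∀ v ∈ C.E (θ : C.V → ℂ), v = 1 := fun v hv => by
    obtain ⟨h, -, rfl⟩ := hv
    exact hact h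
  have hdeg : deg (χ : G → ℂ) = deg (θ : C.V → ℂ) * ∑ k, C.aN χ θ k := by
    rw [C.deg_eq_sum χ, Finset.sum_eq_single θ (fun θ' _ hne => by
      rw [Finset.sum_eq_zero fun k _ => honly θ' k hne, mul_zero]) (by simp)]
  -- a single eigenvalue
  obtain ⟨j, hj, hj0⟩ : ∃ j : ZMod p, C.aN χ θ j = 1 ∧ ∀ k, k ≠ j → C.aN χ θ k = 0 := by
    rcases hcase with ⟨h0, w, hw⟩ | ⟨h0, hv⟩ | ⟨h0, -, w, hw⟩
    · refine ⟨w, by rw [hw, if_pos]; rw [inv_mul_cancel]; exact one_mem _, fun k hk => ?_⟩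
      by_cases hk0 : k = 0
      · rw [hk0, h0]
      rw [show k = ((Units.mk0 k hk0 : (ZMod p)ˣ) : ZMod p) from rfl, hw, if_neg]
      intro hmem
      apply hk
      rw [show k = ((Units.mk0 k hk0 : (ZMod p)ˣ) : ZMod p) from rfl, ← inv_mul_eq_one.1 (hE _ hmem)]
    · refine ⟨0, h0, fun k hk => ?_⟩
      rw [show k = ((Units.mk0 k hk : (ZMod p)ˣ) : ZMod p) from rfl, hv]
    · exfalso
      have hs := (Nat.le_mul_of_pos_left _ (C.ne_zero_deg_V θ)).trans hle
      rw [sum_units_eq, h0, Finset.sum_congr rfl fun v _ => hw v, Finset.sum_ite, Finset.sum_const_zero,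
        zero_add, Finset.sum_const, smul_eq_mul, mul_one, Finset.filter_not,
        Finset.card_univ_sdiff, ZMod.card_units] at hs
      have h1 : (Finset.univ.filter fun v : (ZMod p)ˣ => w⁻¹ * v ∈ C.E (θ : C.V → ℂ)).card = 1 := by
        rw [card_coset, Subgroup.card_eq_one, Subgroup.eq_bot_iff_forall]
        exact hE
      omega
  have hsumk : ∑ k, C.aN χ θ k = 1 := by
    rw [Finset.sum_eq_single j (fun k _ hk => hj0 k hk) (by simp), hj]
  have hval : (χ : G → ℂ) C.y = (deg (χ : G → ℂ) : ℂ) * psi p j := by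
    rw [← C.yP_one, ← C.el_one_right, C.apply_el,
      Finset.sum_eq_single θ (fun θ' _ hne => Finset.sum_eq_zero fun k _ => by
        rw [honly θ' k hne, Nat.cast_zero, zero_mul, zero_mul]) (by simp),
      Finset.sum_eq_single j (fun k _ hk => by
        rw [hj0 k hk, Nat.cast_zero, zero_mul, zero_mul]) (by simp),
      hj, hdeg, hsumk, irr_apply_one_eq_deg]
    push_cast
    rw [mul_one j, one_mul, mul_one]
    ring
  rw [hval, norm_mul, Complex.norm_natCast, AddChar.norm_apply, mul_one]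

/-- The exceptional shape in degree `p - 2`. -/
theorem exceptional_shape (hM : IsPModular p M) (χ : IrrCharacter G)
    (hd : deg (χ : G → ℂ) + 2 = p) (hact : ∃ h : C.H, C.act h ≠ 1)
    (hy : (χ : G → ℂ) C.y ≠ (χ : G → ℂ) 1) :
    ∃ (θ : IrrCharacter C.V) (w : (ZMod p)ˣ),
      (θ : C.V → ℂ) 1 = 1 ∧ (∀ h : C.H, C.act h = 1 ∨ C.act h = -1) ∧ (∃ h : C.H, C.act h = -1) ∧
      (∀ v : (ZMod p)ˣ, C.bI χ θ (v : ZMod p) = if v = w ∨ v = -w then 1 else 0) ∧
      ∀ (i : ZMod p) (v : C.V), (χ : G → ℂ) (C.el i v) = (θ : C.V → ℂ) v *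
        ((if i = 0 then (p : ℂ) else 0) - (psi p ((w : ZMod p) * i) + psi p (-((w : ZMod p) * i)))) := by
  have hp := (Fact.out : p.Prime)
  obtain ⟨θ, hoth, hle, hcase⟩ := C.small_shape hM χ hd.le
  rcases hcase with ⟨h0, w, hw⟩ | ⟨h0, hv⟩ | ⟨h0, he, w, hw⟩
  · -- no fixed points: the action is free
    exfalso
    have hz : ∀ θ' : IrrCharacter C.V, C.aN χ θ' 0 = 0 := fun θ' => by
      by_contra hne
      obtain ⟨h, rfl⟩ := hoth θ' 0 hne
      exact hne (by rw [C.aN_conjI_zero, h0])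
    let c : (ZMod p)ˣ → ℕ := fun u => ∑ θ' : IrrCharacter C.V, deg (θ' : C.V → ℂ) * C.aN χ θ' u
    have hc : deg (χ : G → ℂ) = ∑ u, c u := by
      rw [C.deg_eq_sum χ]
      simp only [c]
      rw [Finset.sum_comm (f := fun (u : (ZMod p)ˣ) (θ' : IrrCharacter C.V) =>
        deg (θ' : C.V → ℂ) * C.aN χ θ' (u : ZMod p))]
      refine Finset.sum_congr rfl fun θ' _ => ?_
      rw [sum_units_eq, hz, zero_add, Finset.mul_sum]
    have hbij : ∀ h : C.H, Function.Bijective fun θ' : IrrCharacter C.V => C.conjI h θ' := fun h => by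
      refine Finite.injective_iff_bijective.1 fun a b e => ?_
      have := congrArg (C.conjI h⁻¹) e
      simp only [← C.conjI_mul, inv_mul_cancel, mul_inv_cancel] at this
      rwa [C.conjI_eq_self_of_act (map_one _), C.conjI_eq_self_of_act (map_one _)] at this
    have hdvd := card_dvd_sum C.act.range c (by
      rintro _ ⟨h, rfl⟩ u
      refine ((hbij h).sum_comp (fun θ' : IrrCharacter C.V =>
        deg (θ' : C.V → ℂ) * C.aN χ θ' ((C.act h * u : (ZMod p)ˣ) : ZMod p))).symm.trans ?_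
      refine Finset.sum_congr rfl fun θ' _ => ?_
      show deg (C.conjI h θ' : C.V → ℂ) * _ = _
      rw [Units.val_mul, C.aN_conjI, C.deg_conjI])
    rw [← hc] at hdvd
    have h1 : Nat.card C.act.range ∣ p - 1 := by
      have := Subgroup.card_subgroup_dvd_card C.act.range
      rwa [Nat.card_eq_fintype_card (α := (ZMod p)ˣ), ZMod.card_units] at this
    have h2 : Nat.card C.act.range ∣ 1 := by
      have h3 := Nat.dvd_sub h1 hdvd
      rwa [show p - 1 - deg (χ : G → ℂ) = 1 by omega] at h3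
    obtain ⟨h, hh⟩ := hact
    exact hh (Subgroup.mem_bot.1 ((Subgroup.card_eq_one.1 (Nat.eq_one_of_dvd_one h2)) ▸
      (⟨h, rfl⟩ : C.act h ∈ C.act.range)))
  · -- `y` in the kernel
    exfalso
    apply hy
    have hz : ∀ (θ' : IrrCharacter C.V) (k : ZMod p), k ≠ 0 → C.aN χ θ' k = 0 := fun θ' k hk => by
      by_contra hne
      obtain ⟨h, rfl⟩ := hoth θ' k hne
      apply hne
      have h1 := C.aN_conjI χ θ h (((C.act h)⁻¹ * Units.mk0 k hk : (ZMod p)ˣ) : ZMod p)
      rw [← Units.val_mul, mul_inv_cancel_left, hv] at h1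
      exact h1
    conv_lhs => rw [← C.yP_one, ← C.el_one_right, C.apply_el]
    rw [irr_apply_one_eq_deg, C.deg_eq_sum χ]
    push_cast
    refine Finset.sum_congr rfl fun θ' _ => ?_
    rw [Finset.mul_sum]
    refine Finset.sum_congr rfl fun k _ => ?_
    rw [irr_apply_one_eq_deg]
    rcases eq_or_ne k 0 with rfl | hk
    · rw [zero_mul, AddChar.map_zero_eq_one]; ring
    · rw [hz θ' k hk]; simp
  -- the exceptional case
  have hsθ : ∑ k, C.aN χ θ k = p - C.ee (θ : C.V → ℂ) := by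
    rw [sum_units_eq, h0, Finset.sum_congr rfl fun v _ => hw v, Finset.sum_ite, Finset.sum_const_zero,
      zero_add, Finset.sum_const, smul_eq_mul, mul_one, Finset.filter_not, Finset.card_univ_sdiff,
      ZMod.card_units, card_coset]
    show 1 + (p - 1 - C.ee (θ : C.V → ℂ)) = _
    omega
  have hconjsum : ∀ h : C.H, ∑ k, C.aN χ (C.conjI h θ) k = ∑ k, C.aN χ θ k := fun h =>
    (Fintype.sum_equiv (Equiv.mulLeft₀ (C.act h : ZMod p) (C.act h).ne_zero)
      (fun k => C.aN χ θ k) (fun k => C.aN χ (C.conjI h θ) k)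
      fun k => (C.aN_conjI χ θ h k).symm).symm
  have hfix : ∀ h : C.H, C.conjI h θ = θ := by
    intro h
    by_contra hne
    have h1 := C.deg_eq_sum χ
    have h2 : deg (C.conjI h θ : C.V → ℂ) * ∑ k, C.aN χ (C.conjI h θ) k +
        deg (θ : C.V → ℂ) * ∑ k, C.aN χ θ k ≤ deg (χ : G → ℂ) := by
      rw [h1, ← Finset.sum_pair (f := fun θ' : IrrCharacter C.V =>
        deg (θ' : C.V → ℂ) * ∑ k, C.aN χ θ' k) hne]
      exact Finset.sum_le_sum_of_subset (Finset.subset_univ _)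
    rw [hconjsum, C.deg_conjI, hsθ] at h2
    have := Nat.le_mul_of_pos_left (p - C.ee (θ : C.V → ℂ)) (C.ne_zero_deg_V θ)
    omega
  have honly : ∀ θ' k, θ' ≠ θ → C.aN χ θ' k = 0 := fun θ' k hne => by
    by_contra hne'
    obtain ⟨h, rfl⟩ := hoth θ' k hne'
    exact hne (hfix h)
  have hdeg : deg (χ : G → ℂ) = deg (θ : C.V → ℂ) * (p - C.ee (θ : C.V → ℂ)) := by
    rw [C.deg_eq_sum χ, Finset.sum_eq_single θ (fun θ' _ hne => by
      rw [Finset.sum_eq_zero fun k _ => honly θ' k hne, mul_zero]) (by simp), hsθ]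
  have hθ1 : deg (θ : C.V → ℂ) = 1 := by
    by_contra hne
    have := C.ne_zero_deg_V θ
    have := Nat.mul_le_mul_right (p - C.ee (θ : C.V → ℂ)) (show 2 ≤ deg (θ : C.V → ℂ) by omega)
    omega
  have hee : C.ee (θ : C.V → ℂ) = 2 := by rw [hθ1, one_mul] at hdeg; omega
  have hstab : ∀ h : C.H, C.act h ∈ C.E (θ : C.V → ℂ) := fun h =>
    ⟨h, C.mem_stab.2 (congrArg Subtype.val (hfix h)), rfl⟩
  have hE : ∀ v : (ZMod p)ˣ, v ∈ C.E (θ : C.V → ℂ) ↔ v = 1 ∨ v = -1 := by
    have h1 : ∀ v ∈ C.E (θ : C.V → ℂ), v = 1 ∨ v = -1 := fun v hv => by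
      have h2 := congrArg Subtype.val (pow_card_eq_one' (x := (⟨v, hv⟩ : C.E (θ : C.V → ℂ))))
      rw [show Nat.card (C.E (θ : C.V → ℂ)) = 2 from hee, SubmonoidClass.coe_pow, pow_two] at h2
      rcases mul_self_eq_one_iff.1 (show (v : ZMod p) * v = 1 from congrArg Units.val h2) with e | e
      · exact Or.inl (Units.ext e)
      · exact Or.inr (Units.ext (by rw [e, Units.val_neg, Units.val_one]))
    obtain ⟨h, hh⟩ := hact
    have hneg : (-1 : (ZMod p)ˣ) ∈ C.E (θ : C.V → ℂ) :=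
      ((h1 _ (hstab h)).resolve_left hh) ▸ hstab h
    intro v
    refine ⟨h1 v, ?_⟩
    rintro (rfl | rfl)
    exacts [one_mem _, hneg]
  have hcos : ∀ v : (ZMod p)ˣ, w⁻¹ * v ∈ C.E (θ : C.V → ℂ) ↔ v = w ∨ v = -w := fun v => by
    rw [hE, inv_mul_eq_one, eq_comm (a := w), inv_mul_eq_iff_eq_mul, mul_neg, mul_one]
  refine ⟨θ, w, by rw [irr_apply_one_eq_deg, hθ1, Nat.cast_one],
    fun h => (hE _).1 (hstab h), ?_, fun v => ?_, fun i v => ?_⟩
  · obtain ⟨h, hh⟩ := hact
    exact ⟨h, ((hE _).1 (hstab h)).resolve_left hh⟩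
  · rw [bI_eq_aN, h0, hw]
    by_cases hv : w⁻¹ * v ∈ C.E (θ : C.V → ℂ)
    · rw [if_pos hv, if_pos ((hcos v).1 hv)]; rfl
    · rw [if_neg hv, if_neg fun e => hv ((hcos v).2 e)]; rfl
  · rw [C.apply_el, Finset.sum_eq_single θ (fun θ' _ hne => Finset.sum_eq_zero fun k _ => by
      rw [honly θ' k hne, Nat.cast_zero, zero_mul, zero_mul]) (by simp), ← Finset.sum_mul,
      mul_comm]
    congr 1
    rw [sum_units_eq, h0, zero_mul, AddChar.map_zero_eq_one]
    have hne : w ≠ -w := fun e => by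
      have e2 : (2 : ZMod p) * (w : ZMod p) = 0 := by
        have := congrArg Units.val e
        rw [Units.val_neg] at this
        linear_combination this
      rcases mul_eq_zero.1 e2 with e2 | e2
      · have hd2 : p ∣ 2 := (ZMod.natCast_eq_zero_iff 2 p).1 (by exact_mod_cast e2)
        have := Nat.le_of_dvd two_pos hd2
        omega
      · exact w.ne_zero e2
    have h1 : ∀ u : (ZMod p)ˣ, (C.aN χ θ (u : ZMod p) : ℂ) * psi p ((u : ZMod p) * i) =
        psi p ((u : ZMod p) * i) - if u = w ∨ u = -w then psi p ((u : ZMod p) * i) else 0 := fun u => by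
      rw [hw]
      by_cases hv : w⁻¹ * u ∈ C.E (θ : C.V → ℂ)
      · rw [if_pos hv, if_pos ((hcos u).1 hv)]; simp
      · rw [if_neg hv, if_neg fun e => hv ((hcos u).2 e)]; simp
    have h2 : ∀ u : (ZMod p)ˣ, (if u = w ∨ u = -w then psi p ((u : ZMod p) * i) else 0) =
        (if u = w then psi p ((u : ZMod p) * i) else 0) +
          if u = -w then psi p ((u : ZMod p) * i) else 0 := fun u => by
      by_cases a : u = w <;> by_cases b : u = -w
      · exact absurd (a.symm.trans b) hne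
      all_goals simp [a, b, hne, hne.symm]
    simp only [h1, h2, Finset.sum_sub_distrib, Finset.sum_add_distrib, Finset.sum_ite_eq',
      Finset.mem_univ, if_true, Units.val_neg, neg_mul]
    have h3 : (if i = 0 then (p : ℂ) else 0) = 1 + ∑ u : (ZMod p)ˣ, psi p ((u : ZMod p) * i) := by
      rw [← sum_psi_mul (p := p) i, sum_units_eq (fun x : ZMod p => psi p (x * i)), zero_mul,
        AddChar.map_zero_eq_one]
    rw [h3, Nat.cast_one]
    ring

end Cfsg.Lib.Blocks.Cyc
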