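import Cfsg.Agent.Blocks.DegreeSubTwo.CenterTrivial

/-!
# Scalars and centres
-/

set_option autoImplicit false
set_option linter.unusedSectionVars false

namespace Cfsg.Lib.Blocks.DegreeSubTwo

open Cfsg.Lib.Chars
open scoped ComplexConjugate Classical

universe u

variable {G : Type u} [Group G] [Fintype G] {p : ℕ} [Fact p.Prime]

/-- An element acting as a scalar has all commutators in the kernel. -/
theorem comm_apply_of_norm {χ : G → ℂ} (hχ : Cfsg.IsCharacter G χ) {g : G}
    (h : ‖χ g‖ = (deg χ : ℝ)) (x : G) : χ (x * g * x⁻¹ * g⁻¹) = χ 1 := by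
  obtain ⟨n, ρ, rfl⟩ := hχ
  rw [deg_character] at h
  obtain ⟨c, hc, -⟩ := scalar_of_norm_character_eq ρ g h
  have h1 : ρ x * ρ g = ρ g * ρ x := by
    rw [hc]
    apply LinearMap.ext
    intro v
    simp
  have h2 : ρ (x * g * x⁻¹ * g⁻¹) = ρ 1 := by
    rw [map_mul, map_mul, map_mul, h1, mul_assoc (ρ g), ← map_mul ρ x, mul_inv_cancel, map_one,
      mul_one, ← map_mul, mul_inv_cancel, map_one]
  exact congrArg (LinearMap.trace ℂ _) h2

/-- A scalar element of a faithful character is central. -/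
theorem mem_center_of_norm {χ : G → ℂ} (hχ : Cfsg.IsCharacter G χ)
    (hfaith : ∀ g, χ g = χ 1 → g = 1) {g : G} (h : ‖χ g‖ = (deg χ : ℝ)) :
    g ∈ Subgroup.center G := by
  refine Subgroup.mem_center_iff.2 fun x => ?_
  have := hfaith _ (comm_apply_of_norm hχ h x)
  rw [mul_inv_eq_one, mul_inv_eq_iff_eq_mul] at this
  exact this

/-- If the normalizer centralizes `y`, a faithful character of small degree makes `y` central. -/
theorem y_mem_center_of_act_trivial (C : Cyc G p) {χ : G → ℂ} (hχ : Cfsg.IsCharacter G χ)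
    (hfaith : ∀ g, χ g = χ 1 → g = 1) (hd : deg χ + 2 ≤ p) (hact : ∀ h : C.H, C.act h = 1) :
    C.y ∈ Subgroup.center G := by
  obtain ⟨M, hM⟩ := exists_isPModular (Fact.out : p.Prime)
  obtain ⟨m, hm⟩ := IsCharacter.exists_decomp hχ
  have hdeg : deg χ = ∑ ψ : IrrCharacter G, m ψ * deg (ψ : G → ℂ) := by
    apply Nat.cast_injective (R := ℂ)
    rw [← IsCharacter.apply_one_eq_deg hχ, hm]
    simp only [Finset.sum_apply, nsmul_eq_mul]
    push_cast
    simp only [Pi.mul_apply, Pi.natCast_apply, irr_apply_one_eq_deg]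
  refine Subgroup.mem_center_iff.2 fun x => ?_
  have h : x * C.y * x⁻¹ * C.y⁻¹ = 1 := by
    apply hfaith
    rw [hm]
    simp only [Finset.sum_apply, Pi.smul_apply]
    refine Finset.sum_congr rfl fun ψ _ => ?_
    rcases eq_or_ne (m ψ) 0 with h0 | h0
    · simp [h0]
    have hle : deg (ψ : G → ℂ) ≤ deg χ := by
      rw [hdeg]
      exact (Nat.le_mul_of_pos_left _ (Nat.pos_of_ne_zero h0)).trans
        (Finset.single_le_sum (f := fun ψ : IrrCharacter G => m ψ * deg (ψ : G → ℂ))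
          (fun ψ _ => Nat.zero_le _) (Finset.mem_univ ψ))
    rw [comm_apply_of_norm (isCharacter_of_irr ψ.2)
      (C.norm_apply_y_of_act_trivial hM ψ (by omega) hact) x]
  rw [mul_inv_eq_one, mul_inv_eq_iff_eq_mul] at h
  exact h

theorem pow_p_y (C : Cyc G p) : C.y ^ p = 1 :=
  orderOf_dvd_iff_pow_eq_one.1 (dvd_of_eq C.order)

/-- An element of order dividing `p` commuting with `y` is a power of `y`. -/
theorem mem_zpowers_of_commute (C : Cyc G p) {x : G} (hx : x ^ p = 1) (hc : Commute x C.y) :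
    x ∈ Subgroup.zpowers C.y := by
  obtain ⟨i, v, rfl⟩ := C.exists_el (Subgroup.mem_centralizer_singleton_iff.2 hc)
  rw [C.el_pow, ZMod.natCast_self, zero_mul, C.el_zero, OneMemClass.coe_eq_one,
    OneMemClass.coe_eq_one, ← orderOf_dvd_iff_pow_eq_one] at hx
  have hv : v = 1 := orderOf_eq_one_iff.1 <| (Nat.dvd_prime (Fact.out : p.Prime)).1 hx |>.resolve_right
    fun e => C.not_dvd_card_V ((dvd_of_eq e.symm).trans (orderOf_dvd_natCard v))
  rw [hv, C.el_one_right]
  exact C.mem_zpowers_iff.2 ⟨i, rfl⟩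

/-- The setting with a given subgroup of order `p`. -/
theorem exists_cyc_zpowers {y : G} (hy : orderOf y = p) (hsq : ¬ p ^ 2 ∣ Nat.card G) :
    ∃ C : Cyc G p, Subgroup.zpowers C.y = Subgroup.zpowers y := by
  have hp := (Fact.out : p.Prime)
  have hdiv : p ∣ Nat.card G := hy ▸ orderOf_dvd_natCard y
  have h1 : (Nat.card G).factorization p = 1 := by
    refine le_antisymm ?_ (hp.factorization_pos_of_dvd Nat.card_pos.ne' hdiv)
    by_contra h
    exact hsq ((hp.pow_dvd_iff_le_factorization Nat.card_pos.ne').2 (by omega))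
  obtain ⟨C, hC⟩ := exists_cyc hdiv hsq
    (Sylow.ofCard (Subgroup.zpowers y) (by rw [Nat.card_zpowers, hy, h1, pow_one]))
  exact ⟨C, hC⟩

/-- The normalizer acts on the subgroup of order `p` by the action of `H`. -/
theorem exists_act_of_norm (C : Cyc G p) {n : G}
    (hn : n ∈ Subgroup.normalizer (Subgroup.zpowers C.y : Set G)) :
    ∃ h : C.H, ∀ i : ZMod p, n * C.yP i * n⁻¹ = C.yP ((C.act h : ZMod p) * i) := by
  obtain ⟨j, h, hh, rfl⟩ := C.decomp n hn
  refine ⟨⟨h, hh⟩, fun i => ?_⟩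
  have h1 := C.conj_yP ⟨h, hh⟩ i
  simp only at h1
  rw [mul_inv_rev, show C.y ^ j * h * C.yP i * (h⁻¹ * (C.y ^ j)⁻¹) =
    C.y ^ j * (h * C.yP i * h⁻¹) * (C.y ^ j)⁻¹ by group, h1, ← C.yP_natCast, ← C.yP_neg, ← C.yP_add,
    ← C.yP_add]
  congr 1
  ring

/-- A linear character of a finite group has values of norm one. -/
theorem norm_linear {K : Type u} [Group K] [Finite K] {θ : K → ℂ}
    (hθ : Cfsg.IsCharacter K θ) (h1 : θ 1 = 1) (v : K) : ‖θ v‖ = 1 := by
  obtain ⟨f, rfl⟩ := exists_hom_of_deg_one hθ h1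
  refine Complex.norm_eq_one_of_pow_eq_one ?_ (Nat.card_pos (α := K)).ne'
  rw [← Units.val_pow_eq_pow_val, ← map_pow, pow_card_eq_one', map_one, Units.val_one]

end Cfsg.Lib.Blocks.DegreeSubTwo
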