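import Mathlib

/-!
# The two estimates for the class sum at an inverting involution
-/

set_option autoImplicit false

namespace Cfsg.Lib.Blocks.DegreeSubTwo

/-- The principal side: the ordinary character has degree `m` and value `u`, the exceptional
characters have degree `m + δ` and value `u + δ`. -/
theorem principal_bound {p : ℕ} (hp : 7 ≤ p) {δ u m x r : ℤ} {A B : ℕ} (hδ : δ = 1 ∨ δ = -1)
    (hr : r = u + δ) (hx : x = m + δ) (hm0 : 0 < m) (hx0 : 0 < x) (hm : m = p * A - ((p : ℤ) - 1) * δ)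
    (hxB : x = p * B + 2 * δ) (huA : u ≤ A) (hrB : r ≤ B) :
    1 - 2 / (p : ℚ) ≤ 1 + (δ : ℚ) * u ^ 2 / m - (δ : ℚ) * r ^ 2 / x := by
  have hkey : (p : ℤ) * (2 * u + δ) ≤ 2 * x := by
    rcases hδ with rfl | rfl
    · have : (p : ℤ) * r ≤ p * B := mul_le_mul_of_nonneg_left hrB (by omega)
      subst hr
      linarith [this]
    · have : (p : ℤ) * u ≤ p * A := mul_le_mul_of_nonneg_left huA (by omega)
      nlinarith [this]
  have hpq : (0 : ℚ) < p := by exact_mod_cast (show 0 < p by omega)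
  have hmq : (0 : ℚ) < m := by exact_mod_cast hm0
  have hxq : (0 : ℚ) < x := by exact_mod_cast hx0
  have hkq : (p : ℚ) * (2 * u + δ) ≤ 2 * x := by exact_mod_cast hkey
  have e : (δ : ℚ) * u ^ 2 / m - (δ : ℚ) * r ^ 2 / x = u ^ 2 / (m * x) - (2 * u + δ) / x := by
    have hr' : (r : ℚ) = u + δ := by exact_mod_cast hr
    have hx' : (x : ℚ) = m + δ := by exact_mod_cast hx
    have hd2 : (δ : ℚ) * δ = 1 := by rcases hδ with rfl | rfl <;> norm_num
    field_simp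
    rw [hr', hx']
    linear_combination ((u : ℚ) ^ 2 - 2 * u * m - m * δ) * hd2
  have h1 : 0 ≤ (u : ℚ) ^ 2 / (m * x) := by positivity
  have h2 : (2 * (u : ℚ) + δ) / x ≤ 2 / p := by
    rw [div_le_div_iff₀ hxq hpq]
    linarith [hkq]
  linarith

/-- The faithful side. -/
theorem faithful_bound {p : ℕ} (hp : 7 ≤ p) {u f m n : ℤ} {A : ℕ} (hn : n = (p : ℤ) - 2)
    (hm : m = p * A + 1) (hA : 1 ≤ A) (hu1 : -((A : ℤ) + 1) ≤ u) (hu2 : u ≤ (A : ℤ) + 1)
    (hf1 : -1 ≤ f) (hf2 : f ≤ 1) :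
    (u : ℚ) ^ 2 / m - ((u + f : ℤ) : ℚ) ^ 2 / (m + n : ℤ) + (f : ℚ) ^ 2 / n < 1 - 2 / (p : ℚ) := by
  obtain ⟨P, hP⟩ : ∃ P : ℚ, P = p := ⟨_, rfl⟩
  have hP7 : 7 ≤ P := by rw [hP]; exact_mod_cast hp
  have hA1 : (1 : ℚ) ≤ A := by exact_mod_cast hA
  have hnq : (n : ℚ) = P - 2 := by rw [hn, hP]; push_cast; ring
  have hmq : (m : ℚ) = P * A + 1 := by rw [hm, hP]; push_cast; ring
  have hu : |(u : ℚ)| ≤ (A : ℚ) + 1 := abs_le.2 ⟨by exact_mod_cast hu1, by exact_mod_cast hu2⟩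
  have hf : |(f : ℚ)| ≤ 1 := abs_le.2 ⟨by exact_mod_cast hf1, by exact_mod_cast hf2⟩
  rw [← hP]
  push_cast
  rw [hnq, hmq]
  set a : ℚ := (A : ℚ) + 1 with ha
  set m' : ℚ := P * A + 1 with hm'
  set n' : ℚ := P - 2 with hn'
  have hm0 : 0 < m' := by positivity
  have hn0 : 0 < n' := by linarith
  have hs0 : 0 < m' + n' := by linarith
  have e : (u : ℚ) ^ 2 / m' - ((u : ℚ) + f) ^ 2 / (m' + n') + (f : ℚ) ^ 2 / n' =
      (u : ℚ) ^ 2 * n' / (m' * (m' + n')) - (2 * u * f + f ^ 2) / (m' + n') + (f : ℚ) ^ 2 / n' := by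
    field_simp
    ring
  rw [e]
  have hu2' : (u : ℚ) ^ 2 ≤ a * a := by nlinarith [sq_abs (u : ℚ), abs_nonneg (u : ℚ), hu]
  have hf2' : (f : ℚ) ^ 2 ≤ 1 := by nlinarith [sq_abs (f : ℚ), abs_nonneg (f : ℚ), hf]
  have huf : -(2 * (u : ℚ) * f + f ^ 2) ≤ 2 * a := by
    have h1 : |(u : ℚ)| * |(f : ℚ)| ≤ a * 1 := mul_le_mul hu hf (abs_nonneg _) (by linarith [abs_nonneg (u : ℚ)])
    rw [← abs_mul] at h1
    have := neg_abs_le ((u : ℚ) * f)
    nlinarith [sq_nonneg (f : ℚ)]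
  have b1 : a / m' ≤ 2 / (P + 1) := by
    rw [div_le_div_iff₀ hm0 (by linarith)]
    nlinarith [mul_nonneg (sub_nonneg.2 hA1) (show (0 : ℚ) ≤ P - 1 by linarith)]
  have b2 : a / (m' + n') ≤ 2 / (2 * P - 1) := by
    rw [div_le_div_iff₀ hs0 (by linarith)]
    simp only [ha, hm', hn']
    nlinarith
  have t1 : (u : ℚ) ^ 2 * n' / (m' * (m' + n')) ≤ 1 / 5 := by
    calc (u : ℚ) ^ 2 * n' / (m' * (m' + n')) ≤ a * a * n' / (m' * (m' + n')) := by
          gcongr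
      _ = a / m' * (a / (m' + n')) * n' := by field_simp
      _ ≤ 2 / (P + 1) * (2 / (2 * P - 1)) * n' := by
          refine mul_le_mul_of_nonneg_right (mul_le_mul b1 b2 (by positivity) ?_) hn0.le
          exact div_nonneg two_pos.le (by linarith)
      _ ≤ 1 / 5 := by
          rw [div_mul_div_comm, div_mul_eq_mul_div, div_le_div_iff₀ (by nlinarith) (by norm_num)]
          simp only [hn']
          nlinarith [mul_nonneg (sub_nonneg.2 hP7) (sub_nonneg.2 hP7)]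
  have t2 : -(2 * (u : ℚ) * f + f ^ 2) / (m' + n') ≤ 4 / 13 := by
    calc -(2 * (u : ℚ) * f + f ^ 2) / (m' + n') ≤ 2 * a / (m' + n') := by gcongr
      _ = 2 * (a / (m' + n')) := by ring
      _ ≤ 2 * (2 / (2 * P - 1)) := by linarith
      _ ≤ 4 / 13 := by
          rw [← mul_div_assoc, div_le_div_iff₀ (by linarith) (by norm_num)]
          linarith
  have t3 : (f : ℚ) ^ 2 / n' ≤ 1 / 5 := by
    rw [div_le_div_iff₀ hn0 (by norm_num)]
    simp only [hn']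
    nlinarith
  have t4 : 2 / P ≤ 2 / 7 := div_le_div_of_nonneg_left two_pos.le (by norm_num) hP7
  rw [neg_div] at t2
  linarith

end Cfsg.Lib.Blocks.DegreeSubTwo
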