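import Cfsg.Agent.Blocks.DegreeSubTwo.Involution
import Cfsg.Agent.Blocks.DegreeSubTwo.Bounds
import Cfsg.Agent.Blocks.CentralDefect
import Cfsg.Agent.Chars.Sums

/-!
# A perfect group with an exceptional character of degree `p - 2` has trivial centralizer complement

The class sum at an inverting involution is evaluated over each linear character of the central
complement: all these partial sums agree, and the estimates separate the principal one from the
faithful one.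
-/

set_option autoImplicit false
set_option linter.unusedSectionVars false

namespace Cfsg.Lib.Blocks.Cyc

open Cfsg.Lib.Chars
open scoped ComplexConjugate Classical

universe u

variable {G : Type u} [Group G] [Fintype G] {M : Ideal AlgInt} {p : ℕ} [Fact p.Prime] (C : Cyc G p)
  (hV : ∀ v : C.V, ((v : C.H) : G) ∈ Subgroup.center G)
include hV

/-- The central character on `V`. -/
noncomputable def om (χ : IrrCharacter G) : C.V →* ℂ where
  toFun v := (χ : G → ℂ) ((v : C.H) : G) / (χ : G → ℂ) 1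
  map_one' := by
    rw [OneMemClass.coe_one, OneMemClass.coe_one, div_self (IsIrrCharacter.apply_one_ne_zero χ.2)]
  map_mul' v w := by
    rw [Subgroup.coe_mul, Subgroup.coe_mul, apply_mul_central χ (hV v)]
    ring

/-- The central character as an irreducible character of `V`. -/
noncomputable def omI (χ : IrrCharacter G) : IrrCharacter C.V :=
  ⟨fun v => ((C.om hV χ).toHomUnits v : ℂ), isIrrCharacter_linear _⟩

lemma omI_apply (χ : IrrCharacter G) (v : C.V) :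
    (C.omI hV χ : C.V → ℂ) v = (χ : G → ℂ) ((v : C.H) : G) / (χ : G → ℂ) 1 := rfl

lemma apply_el_central (χ : IrrCharacter G) (i : ZMod p) (v : C.V) :
    (χ : G → ℂ) (C.el i v) = (C.omI hV χ : C.V → ℂ) v * (χ : G → ℂ) (C.yP i) := by
  rw [el, ← (C.commute_V v i).eq, apply_mul_central χ (hV v), omI_apply]

lemma mu_central (χ : IrrCharacter G) (θ : IrrCharacter C.V) (i : ZMod p) :
    C.mu (χ : G → ℂ) (θ : C.V → ℂ) i = if C.omI hV χ = θ then (χ : G → ℂ) (C.yP i) else 0 := by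
  have h : C.mu (χ : G → ℂ) (θ : C.V → ℂ) i =
      (χ : G → ℂ) (C.yP i) * Cfsg.classInner (C.omI hV χ : C.V → ℂ) (θ : C.V → ℂ) := by
    rw [mu, classInner_def, mul_left_comm, Finset.mul_sum (a := (χ : G → ℂ) (C.yP i))]
    congr 1
    refine Finset.sum_congr rfl fun v _ => ?_
    rw [C.apply_el_central hV]
    ring
  rw [h, classInner_irrCharacter, mul_ite, mul_one, mul_zero]

lemma omI_of_lies {χ : IrrCharacter G} {θ : IrrCharacter C.V} (h : C.Lies χ θ) :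
    C.omI hV χ = θ := by
  by_contra hne
  obtain ⟨v, hv⟩ := h
  refine hv (Int.cast_injective (α := ℂ) ?_)
  rw [← C.bb_eq, Cyc.bb, Int.cast_zero, Finset.sum_eq_zero, mul_zero]
  intro i _
  rw [C.mu_central hV, if_neg hne, zero_mul]

lemma sum_yP_omI (χ : IrrCharacter G) :
    (p : ℂ)⁻¹ * ∑ i : ZMod p, (χ : G → ℂ) (C.yP i) = (C.aN χ (C.omI hV χ) 0 : ℂ) := by
  rw [← C.aa_eq, aa]
  congr 1
  refine Finset.sum_congr rfl fun i _ => ?_
  rw [C.mu_central hV, if_pos rfl, zero_mul, neg_zero, AddChar.map_zero_eq_one, mul_one]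

lemma deg_omI (χ : IrrCharacter G) :
    deg (χ : G → ℂ) = ∑ k : ZMod p, C.aN χ (C.omI hV χ) k := by
  apply Nat.cast_injective (R := ℂ)
  have h := C.mu_central hV χ (C.omI hV χ) 0
  rw [if_pos rfl, yP_zero, C.mu_eq_sum_aa, irr_apply_one_eq_deg] at h
  rw [← h]
  push_cast
  refine Finset.sum_congr rfl fun k _ => ?_
  rw [mul_zero, AddChar.map_zero_eq_one, mul_one, C.aa_eq]

lemma conjI_central (h : C.H) (θ : IrrCharacter C.V) : C.conjI h θ = θ := by
  refine Subtype.ext (funext fun v => ?_)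
  show conjN C.V h (θ : C.V → ℂ) v = _
  rw [conjN_eq_comp]
  show (θ : C.V → ℂ) (MulAut.conjNormal h v) = _
  refine congrArg (θ : C.V → ℂ) (Subtype.ext (Subtype.ext ?_))
  rw [MulAut.conjNormal_apply, Subgroup.coe_mul, Subgroup.coe_mul, Subgroup.coe_inv,
    Subgroup.mem_center_iff.1 (hV v) (h : G), mul_inv_cancel_right]

variable (hact : ∀ h : C.H, C.act h = 1 ∨ C.act h = -1) (hneg : ∃ h : C.H, C.act h = -1)
include hact hneg

lemma mem_E_iff (θ : IrrCharacter C.V) (v : (ZMod p)ˣ) :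
    v ∈ C.E (θ : C.V → ℂ) ↔ v = 1 ∨ v = -1 := by
  constructor
  · rintro ⟨h, -, rfl⟩
    exact hact h
  · rintro (rfl | rfl)
    · exact one_mem _
    · obtain ⟨h, hh⟩ := hneg
      exact ⟨h, C.mem_stab.2 (congrArg Subtype.val (C.conjI_central hV h θ)), hh⟩

lemma ee_eq_two (hp : 3 ≤ p) (θ : IrrCharacter C.V) : C.ee (θ : C.V → ℂ) = 2 := by
  have hne : (1 : (ZMod p)ˣ) ≠ -1 := fun e => by
    have e2 : ((2 : ℕ) : ZMod p) = 0 := by
      have h1 : (1 : ZMod p) = -1 := by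
        have h2 := congrArg Units.val e
        rwa [Units.val_neg, Units.val_one] at h2
      push_cast
      linear_combination h1
    have := Nat.le_of_dvd two_pos ((ZMod.natCast_eq_zero_iff 2 p).1 e2)
    omega
  rw [Cyc.ee, Nat.card_eq_fintype_card, Fintype.card_subtype,
    show (Finset.univ.filter fun v => v ∈ C.E (θ : C.V → ℂ)) = {1, -1} by
      ext v; simp [C.mem_E_iff hV hact hneg θ v], Finset.card_pair hne]

omit hact hneg
variable {s : G} (hs : s * s = 1) (hinv : ∀ i : ZMod p, s * C.yP i * s⁻¹ = C.yP (-i))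

/-- The summand of the class sum. -/
noncomputable def term (_C : Cyc G p) (s : G) (χ : IrrCharacter G) : ℂ :=
  (χ : G → ℂ) s ^ 2 * conj ((χ : G → ℂ) _C.y) / (χ : G → ℂ) 1

include hs hinv in
/-- All the partial class sums agree. -/
theorem card_mul_partial_sum (hp2 : p ≠ 2) (hodd : Odd (Nat.card C.V)) (θ : IrrCharacter C.V)
    (hθ1 : (θ : C.V → ℂ) 1 = 1) :
    (Nat.card C.V : ℂ) * ∑ χ ∈ Finset.univ.filter (fun χ => C.Lies χ θ), C.term s χ =
      ∑ χ : IrrCharacter G, C.term s χ := by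
  have hp := (Fact.out : p.Prime)
  have hpV : ¬ p ∣ Nat.card C.V := fun h => C.not_dvd (h.trans (Subgroup.card_subgroup_dvd_card _))
  have hsinv : s⁻¹ = s := inv_eq_of_mul_eq_one_right hs
  have hzero : ∀ v : C.V, v ≠ 1 →
      ∑ χ : IrrCharacter G, conj ((C.omI hV χ : C.V → ℂ) v) * C.term s χ = 0 := by
    intro v hv
    have hpairs : IsEmpty {q : G × G // IsConj s q.1 ∧ IsConj s q.2 ∧ q.1 * q.2 = C.el 1 v} := by
      refine ⟨fun ⟨⟨a, b⟩, ha, hb, hab⟩ => hv ?_⟩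
      simp only at ha hb hab
      obtain ⟨x, rfl⟩ := isConj_iff.1 ha
      obtain ⟨z, rfl⟩ := isConj_iff.1 hb
      set a := x * s * x⁻¹ with hadef
      set b := z * s * z⁻¹ with hbdef
      have haa : a * a = 1 := by
        rw [hadef, show x * s * x⁻¹ * (x * s * x⁻¹) = x * (s * s) * x⁻¹ by group, hs]; group
      have hbb : b * b = 1 := by
        rw [hbdef, show z * s * z⁻¹ * (z * s * z⁻¹) = z * (s * s) * z⁻¹ by group, hs]; group
      set g := C.el 1 v with hg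
      set w := ((v : C.H) : G) with hw
      have hinvg : a * g * a = g⁻¹ := by
        rw [← hab, mul_inv_rev, inv_eq_of_mul_eq_one_right haa, inv_eq_of_mul_eq_one_right hbb,
          ← mul_assoc a a b, haa, one_mul]
      have hgy : g = C.y * w := by rw [hg, el, yP_one]
      have hwc : ∀ t : G, t * w = w * t := fun t => Subgroup.mem_center_iff.1 (hV v) t
      have h1 : a * C.y * a = C.y⁻¹ * (w⁻¹ * w⁻¹) := by
        have h2 : a * C.y * a * w = C.y⁻¹ * w⁻¹ := by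
          rw [show C.y⁻¹ * w⁻¹ = (w * C.y)⁻¹ from (mul_inv_rev _ _).symm, ← hwc, ← hgy, ← hinvg, hgy]
          simp only [mul_assoc, hwc a]
        calc a * C.y * a = a * C.y * a * w * w⁻¹ := by group
          _ = _ := by rw [h2, mul_assoc]
      have hcomm : Commute C.y⁻¹ (w⁻¹ * w⁻¹) := by
        have h3 : Commute C.y w := hwc C.y
        exact (h3.inv_inv).mul_right h3.inv_inv
      have hyp : C.y ^ p = 1 := orderOf_dvd_iff_pow_eq_one.1 (dvd_of_eq C.order)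
      have h4 : (a * C.y * a) ^ p = 1 := by
        have hai : a⁻¹ = a := inv_eq_of_mul_eq_one_right haa
        calc (a * C.y * a) ^ p = (a * C.y * a⁻¹) ^ p := by rw [hai]
          _ = 1 := by rw [conj_pow, hyp, mul_one, mul_inv_cancel]
      rw [h1, hcomm.mul_pow, inv_pow, hyp, inv_one, one_mul, ← mul_inv_rev, inv_pow, inv_eq_one, ← pow_two, ← pow_mul, ← orderOf_dvd_iff_pow_eq_one,
        hw, Subgroup.orderOf_coe, Subgroup.orderOf_coe] at h4
      have hv' : orderOf v ∣ Nat.card C.V := orderOf_dvd_natCard v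
      have hco : Nat.Coprime (Nat.card C.V) (2 * p) :=
        Nat.Coprime.mul_right (Nat.coprime_two_right.2 hodd)
          (hp.coprime_iff_not_dvd.2 hpV).symm
      exact orderOf_eq_one_iff.1 (Nat.eq_one_of_dvd_coprimes hco hv' h4)
    have h := class_mult_formula s s (C.el 1 v)
    rw [Nat.card_of_isEmpty, Nat.cast_zero, eq_comm, mul_eq_zero] at h
    have hne : (Nat.card {x : G // IsConj s x} : ℂ) * (Nat.card {x : G // IsConj s x} : ℂ) /
        (Nat.card G : ℂ) ≠ 0 := by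
      have : Nonempty {x : G // IsConj s x} := ⟨⟨s, IsConj.refl s⟩⟩
      have h1 : (Nat.card {x : G // IsConj s x} : ℂ) ≠ 0 := Nat.cast_ne_zero.2 Nat.card_pos.ne'
      have h2 : (Nat.card G : ℂ) ≠ 0 := Nat.cast_ne_zero.2 Nat.card_pos.ne'
      exact div_ne_zero (mul_ne_zero h1 h1) h2
    rw [← h.resolve_left hne]
    refine Finset.sum_congr rfl fun χ _ => ?_
    rw [C.apply_el_central hV, yP_one, map_mul, term]
    ring
  have hmain : ∑ v : C.V, (θ : C.V → ℂ) v *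
      ∑ χ : IrrCharacter G, conj ((C.omI hV χ : C.V → ℂ) v) * C.term s χ =
      ∑ χ : IrrCharacter G, C.term s χ := by
    rw [Finset.sum_eq_single (1 : C.V) (fun v _ hv => by rw [hzero v hv, mul_zero]) (by simp), hθ1,
      one_mul]
    refine Finset.sum_congr rfl fun χ _ => ?_
    rw [omI_apply, OneMemClass.coe_one, OneMemClass.coe_one,
      div_self (IsIrrCharacter.apply_one_ne_zero χ.2), map_one, one_mul]
  rw [← hmain, Finset.mul_sum, Finset.sum_filter]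
  simp only [Finset.mul_sum]
  rw [Finset.sum_comm]
  refine Finset.sum_congr rfl fun χ _ => ?_
  have h1 : ∑ v : C.V, (θ : C.V → ℂ) v * (conj ((C.omI hV χ : C.V → ℂ) v) * C.term s χ) =
      (Nat.card C.V : ℂ) * Cfsg.classInner (θ : C.V → ℂ) (C.omI hV χ : C.V → ℂ) * C.term s χ := by
    rw [classInner_def, ← mul_assoc, mul_inv_cancel₀ (Nat.cast_ne_zero.2 Nat.card_pos.ne'), one_mul,
      Finset.sum_mul]
    exact Finset.sum_congr rfl fun v _ => by ring
  rw [h1, classInner_irrCharacter]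
  by_cases hl : C.Lies χ θ
  · rw [if_pos hl, if_pos (C.omI_of_lies hV hl).symm, mul_one]
  · rw [if_neg hl]
    by_cases he : θ = C.omI hV χ
    · have hy : (χ : G → ℂ) C.y = 0 := by
        have h2 := C.mu_eq_zero_of_not_lies hl (one_ne_zero : (1 : ZMod p) ≠ 0)
        rwa [C.mu_central hV, if_pos he.symm, yP_one] at h2
      rw [term, hy]
      simp
    · rw [if_neg he]
      simp

include hs hinv in
/-- The data of a member of an orbit with constant multiplicity. -/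
theorem ordinary_data (hp3 : 3 ≤ p) {θ : IrrCharacter C.V} {χ : IrrCharacter G} {c : ℤ}
    (hc : c = 1 ∨ c = -1) (hb : ∀ v : (ZMod p)ˣ, C.bI χ θ (v : ZMod p) = c) :
    ∃ (r : ℤ) (a : ℕ), c ≤ a ∧ -(a : ℤ) ≤ r ∧ r ≤ a ∧
      (deg (χ : G → ℂ) : ℤ) = p * a - ((p : ℤ) - 1) * c ∧ (χ : G → ℂ) s = r ∧
      C.term s χ = (((c : ℚ) * r ^ 2 / deg (χ : G → ℂ) : ℚ) : ℂ) := by
  have hl : C.Lies χ θ := ⟨1, by rw [hb]; omega⟩
  have hom := C.omI_of_lies hV hl
  obtain ⟨r, hr, hr1, hr2⟩ := C.exists_int_apply_invert (by omega) (isCharacter_of_irr χ.2) hs hinv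
    (C.sum_yP_omI hV χ)
  rw [hom] at hr1 hr2
  have ha : ∀ v : (ZMod p)ˣ, (C.aN χ θ (v : ZMod p) : ℤ) = C.aN χ θ 0 - c := fun v => by
    have := hb v
    rw [bI_eq_aN] at this
    omega
  refine ⟨r, C.aN χ θ 0, by have := ha 1; omega, hr1, hr2, ?_, hr, ?_⟩
  · rw [C.deg_omI hV χ, hom, sum_units_eq]
    push_cast
    rw [Finset.sum_congr rfl fun v _ => ha v, Finset.sum_const, Finset.card_univ, ZMod.card_units,
      nsmul_eq_mul, Nat.cast_sub (show 1 ≤ p by omega)]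
    push_cast
    ring
  · have hy : (χ : G → ℂ) C.y = (c : ℂ) := by
      have h := C.mu_eq_bI χ θ (one_ne_zero : (1 : ZMod p) ≠ 0)
      rw [C.mu_central hV, if_pos hom, yP_one] at h
      rw [h, Finset.sum_congr rfl fun v _ => by rw [hb v], ← Finset.mul_sum,
        sum_units_psi (one_ne_zero : (1 : ZMod p) ≠ 0)]
      ring
    rw [term, hy, hr, irr_apply_one_eq_deg, map_intCast]
    push_cast
    ring

include hs hinv hact hneg in
/-- The evaluation of a partial class sum. -/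
theorem eval_partial_sum (hM : IsPModular p M) (hp : 7 ≤ p) (θ : IrrCharacter C.V) :
    ∃ (ν : (ZMod p)ˣ → IrrCharacter G) (δ r : ℤ) (B : ℕ), OrbitData C θ ν δ ∧ 0 ≤ (B : ℤ) + δ ∧
      -(B : ℤ) ≤ r ∧ r ≤ B ∧ (∀ u, (deg (ν u : G → ℂ) : ℤ) = p * B + 2 * δ) ∧
      ∃ χa χb : IrrCharacter G, χa ≠ χb ∧
        (∀ χ, (C.Lies χ θ ∧ χ ∉ Set.range ν) ↔ (χ = χa ∨ χ = χb)) ∧
        ∀ (ca cb ra rb : ℤ), C.bI χa θ 1 = ca → C.bI χb θ 1 = cb → (χa : G → ℂ) s = ra →
          (χb : G → ℂ) s = rb →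
          ca * deg (χa : G → ℂ) + cb * deg (χb : G → ℂ) = δ * deg (ν 1 : G → ℂ) ∧
          ca * ra + cb * rb = δ * r ∧
          ∑ χ ∈ Finset.univ.filter (fun χ => C.Lies χ θ), C.term s χ =
            (((ca : ℚ) * ra ^ 2 / deg (χa : G → ℂ) + (cb : ℚ) * rb ^ 2 / deg (χb : G → ℂ) -
              (δ : ℚ) * r ^ 2 / deg (ν 1 : G → ℂ) : ℚ) : ℂ) := by
  have hpp := (Fact.out : p.Prime)
  obtain ⟨ν, δ, hD⟩ := C.exists_orbitData hM θ
  have hδ0 : δ ≠ 0 := by rcases hD.sign with h | h <;> omega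
  have hlν : ∀ u, C.Lies (ν u) θ := fun u => (hD.lies_iff _).2 (Or.inl ⟨u, rfl⟩)
  have hom : C.omI hV (ν 1) = θ := C.omI_of_lies hV (hlν 1)
  obtain ⟨r, hr, hr1, hr2⟩ := C.exists_int_apply_invert (by omega) (isCharacter_of_irr (ν 1).2) hs
    hinv (C.sum_yP_omI hV (ν 1))
  rw [hom] at hr1 hr2
  set B := C.aN (ν 1) θ 0 with hB
  have hreg : ∀ {x : G}, ¬ p ∣ orderOf x → ∀ u, (ν u : G → ℂ) x = (ν 1 : G → ℂ) x := fun hx u => by
    rw [← C.twist_regular u (ν 1) hx, hD.twist_exc, mul_one]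
  have hx1 : ¬ p ∣ orderOf (1 : G) := by rw [orderOf_one]; exact hpp.not_dvd_one
  have hxs : ¬ p ∣ orderOf s := fun h => by
    have := Nat.le_of_dvd two_pos (h.trans (orderOf_dvd_of_pow_eq_one (by rw [pow_two]; exact hs)))
    omega
  have hdegν : ∀ u, deg (ν u : G → ℂ) = deg (ν 1 : G → ℂ) := fun u => by
    apply Nat.cast_injective (R := ℂ)
    rw [← irr_apply_one_eq_deg, ← irr_apply_one_eq_deg, hreg hx1]
  have hb1 : ∀ v : (ZMod p)ˣ, (C.aN (ν 1) θ (v : ZMod p) : ℤ) =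
      B + if (1 : (ZMod p)ˣ)⁻¹ * v ∈ C.E (θ : C.V → ℂ) then δ else 0 := fun v => by
    have h := hD.bI_exc 1 v
    rw [bI_eq_aN] at h
    rw [hB]
    split_ifs at h ⊢ <;> omega
  have hBδ : 0 ≤ (B : ℤ) + δ := by
    have := hb1 1
    rw [if_pos (by rw [inv_one, one_mul]; exact one_mem _)] at this
    omega
  have hdeg1 : (deg (ν 1 : G → ℂ) : ℤ) = p * B + 2 * δ := by
    rw [C.deg_omI hV, hom, sum_units_eq]
    push_cast
    rw [Finset.sum_congr rfl fun v _ => hb1 v, Finset.sum_add_distrib, Finset.sum_const,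
      Finset.card_univ, ZMod.card_units, nsmul_eq_mul, ← Finset.sum_filter, Finset.sum_const,
      card_coset, show Nat.card (C.E (θ : C.V → ℂ)) = 2 from C.ee_eq_two hV hact hneg (by omega) θ,
      nsmul_eq_mul, ← hB, Nat.cast_sub (show 1 ≤ p by omega)]
    push_cast
    ring
  refine ⟨ν, δ, r, B, hD, hBδ, hr1, hr2, fun u => by rw [hdegν, hdeg1], ?_⟩
  set L := Finset.univ.filter (fun χ => χ ∈ {χ | C.Lies χ θ} \ Set.range ν) with hL
  have hLcard : L.card = 2 := by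
    rw [← C.ee_eq_two hV hact hneg (by omega) θ, ← hD.card_diff, Nat.card_eq_fintype_card,
      Fintype.card_subtype]
  obtain ⟨χa, χb, hne, hLab⟩ := Finset.card_eq_two.1 hLcard
  refine ⟨χa, χb, hne, fun χ => ?_, ?_⟩
  · have h : χ ∈ L ↔ χ ∈ ({χa, χb} : Finset (IrrCharacter G)) := by rw [hLab]
    simpa [hL] using h
  intro ca cb ra rb hca hcb hra hrb
  have hmem : ∀ χ, χ ∈ L → C.Lies χ θ ∧ χ ∉ Set.range ν := fun χ h => by simpa [hL] using h
  have hrel : ∀ {x : G}, ¬ p ∣ orderOf x →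
      (ca : ℂ) * (χa : G → ℂ) x + (cb : ℂ) * (χb : G → ℂ) x = (δ : ℂ) * (ν 1 : G → ℂ) x := by
    intro x hx
    have h := hD.regular_sum hx 1
    rw [← hL, hLab, Finset.sum_pair hne, hca, hcb] at h
    push_cast at h
    linear_combination h
  refine ⟨?_, ?_, ?_⟩
  · have h := hrel hx1
    rw [irr_apply_one_eq_deg, irr_apply_one_eq_deg, irr_apply_one_eq_deg] at h
    exact_mod_cast h
  · have h := hrel hxs
    rw [hra, hrb, hr] at h
    exact_mod_cast h
  have hord : ∀ χ c (rc : ℤ), χ ∈ L → C.bI χ θ 1 = c → (χ : G → ℂ) s = rc →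
      C.term s χ = (((c : ℚ) * rc ^ 2 / deg (χ : G → ℂ) : ℚ) : ℂ) := by
    intro χ c rc hχ hc hrc
    have hsd := hD.sign_diff (χ := χ) ⟨(hmem χ hχ).1, (hmem χ hχ).2⟩
    obtain ⟨r', a, -, -, -, -, e1, e2⟩ := C.ordinary_data hV hs hinv (by omega) (θ := θ) (χ := χ)
      (c := c) (hc ▸ hsd) fun v => (hD.bI_ord χ (hmem χ hχ).2 v).trans hc
    rw [hrc] at e1
    obtain rfl : rc = r' := Int.cast_injective e1
    exact e2
  have hsplit : Finset.univ.filter (fun χ => C.Lies χ θ) = Finset.univ.image ν ∪ L := by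
    ext χ
    simp only [hL, Finset.mem_filter, Finset.mem_univ, true_and, Finset.mem_union, Finset.mem_image,
      Set.mem_sdiff, Set.mem_ofPred_eq, Set.mem_range]
    constructor
    · intro h
      by_cases hr : ∃ u, ν u = χ
      · exact Or.inl hr
      · exact Or.inr ⟨h, hr⟩
    · rintro (⟨u, rfl⟩ | ⟨h, -⟩)
      · exact hlν u
      · exact h
  have hdisj : Disjoint (Finset.univ.image ν) L := by
    rw [Finset.disjoint_left]
    intro χ h1 h2
    obtain ⟨u, -, rfl⟩ := Finset.mem_image.1 h1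
    exact (hmem _ h2).2 ⟨u, rfl⟩
  have hsumy : ∑ χ ∈ Finset.univ.image ν, (χ : G → ℂ) C.y = -(δ : ℂ) := by
    have hb : ∀ v : (ZMod p)ˣ,
        ∑ χ ∈ Finset.univ.image ν, (C.bI χ θ (v : ZMod p) : ℂ) = -(δ : ℂ) := by
      intro v
      rw [Finset.sum_eq_single (ν v)]
      · rw [hD.bI_exc, if_pos (by rw [inv_mul_cancel]; exact one_mem _)]
        push_cast; rfl
      · intro χ hχ hne'
        obtain ⟨u, -, rfl⟩ := Finset.mem_image.1 hχ
        rw [hD.bI_exc, if_neg fun h => hne' ((hD.eq_iff u v).2 h), Int.cast_zero]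
      · exact fun h => absurd (Finset.mem_image.2 ⟨v, Finset.mem_univ _, rfl⟩) h
    have h1 : ∀ χ ∈ Finset.univ.image ν, (χ : G → ℂ) C.y =
        -∑ u : (ZMod p)ˣ, (C.bI χ θ u : ℂ) * psi p (u : ZMod p) := fun χ hχ => by
      obtain ⟨u, -, rfl⟩ := Finset.mem_image.1 hχ
      have h := C.mu_eq_bI (ν u) θ (one_ne_zero : (1 : ZMod p) ≠ 0)
      rw [C.mu_central hV, if_pos (C.omI_of_lies hV (hlν u)), yP_one] at h
      rw [h]
      simp only [mul_one]
    rw [Finset.sum_congr rfl h1, Finset.sum_neg_distrib, Finset.sum_comm]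
    simp only [← Finset.sum_mul, hb, ← Finset.mul_sum]
    have h2 := sum_units_psi (p := p) (one_ne_zero : (1 : ZMod p) ≠ 0)
    simp only [mul_one] at h2
    rw [h2]
    ring
  have hexc : ∑ χ ∈ Finset.univ.image ν, C.term s χ =
      ((-(δ : ℚ) * r ^ 2 / deg (ν 1 : G → ℂ) : ℚ) : ℂ) := by
    have h1 : ∀ χ ∈ Finset.univ.image ν, C.term s χ =
        ((r : ℂ) ^ 2 / (deg (ν 1 : G → ℂ) : ℂ)) * conj ((χ : G → ℂ) C.y) := fun χ hχ => by
      obtain ⟨u, -, rfl⟩ := Finset.mem_image.1 hχ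
      rw [term, irr_apply_one_eq_deg, hdegν, hreg hxs, hr]
      ring
    rw [Finset.sum_congr rfl h1, ← Finset.mul_sum, ← map_sum, hsumy, map_neg, map_intCast]
    push_cast
    ring
  rw [hsplit, Finset.sum_union hdisj, hLab, Finset.sum_pair hne,
    hord χa ca ra (hLab ▸ Finset.mem_insert_self _ _) hca hra,
    hord χb cb rb (hLab ▸ Finset.mem_insert_of_mem (Finset.mem_singleton_self _)) hcb hrb, hexc]
  push_cast
  ring

omit hV

/-- The trivial character of `V`. -/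
noncomputable def oneVc : IrrCharacter C.V := ⟨fun _ => 1, isIrrCharacter_one⟩

include hs hinv in
/-- The conclusion: the complement `V` is trivial. -/
theorem V_eq_one (hV : ∀ v : C.V, ((v : C.H) : G) ∈ Subgroup.center G) (hM : IsPModular p M)
    (hp : 7 ≤ p) (hodd : Odd (Nat.card C.V)) (hperf : ∀ f : G →* ℂˣ, f = 1)
    (hact : ∀ h : C.H, C.act h = 1 ∨ C.act h = -1) (hneg : ∃ h : C.H, C.act h = -1)
    (ζ : IrrCharacter G) (hζd : deg (ζ : G → ℂ) + 2 = p) (θ : IrrCharacter C.V) (w : (ZMod p)ˣ)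
    (hθ1 : (θ : C.V → ℂ) 1 = 1)
    (hζb : ∀ v : (ZMod p)ˣ, C.bI ζ θ (v : ZMod p) = if v = w ∨ v = -w then 1 else 0)
    (hinj : ∀ v : C.V, (θ : C.V → ℂ) v = 1 → v = 1) (v : C.V) : v = 1 := by
  have hpp := (Fact.out : p.Prime)
  -- the principal side
  obtain ⟨ν₁, δ₁, r₁, B₁, hD₁, -, -, hr₁, hdν₁, χa₁, χb₁, hne₁, hL₁, hev₁⟩ :=
    C.eval_partial_sum hV hact hneg hs hinv hM hp (C.oneVc)
  set one : IrrCharacter G := principal G with hone
  have hone1 : ∀ g, (one : G → ℂ) g = 1 := fun g => rfl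
  have honeom : C.omI hV one = C.oneVc := by
    refine Subtype.ext (funext fun v => ?_)
    rw [omI_apply, hone1, hone1, div_one]
    rfl
  have honeb : ∀ v : (ZMod p)ˣ, C.bI one C.oneVc (v : ZMod p) = 1 := fun v => by
    apply Int.cast_injective (α := ℂ)
    rw [← C.bb_eq, Cyc.bb]
    simp only [C.mu_central hV, honeom, if_pos, hone1, one_mul, Finset.sum_sub_distrib,
      Finset.sum_const, Finset.card_univ, ZMod.card, nsmul_eq_mul, mul_one]
    rw [show ∑ i : ZMod p, psi p (-((v : ZMod p) * i)) = 0 by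
      have h := sum_psi_mul (p := p) (-(v : ZMod p))
      rw [if_neg (neg_ne_zero.2 v.ne_zero)] at h
      rw [← h]
      exact Finset.sum_congr rfl fun i _ => by rw [mul_neg, mul_comm]]
    have : (p : ℂ) ≠ 0 := Nat.cast_ne_zero.2 hpp.ne_zero
    rw [sub_zero, inv_mul_cancel₀ this, Int.cast_one]
  obtain ⟨u₀, hu₀, hu₀'⟩ : ∃ u : (ZMod p)ˣ, u ≠ w ∧ u ≠ -w := by
    by_contra hall
    push Not at hall
    have h1 : (Finset.univ : Finset (ZMod p)ˣ) ⊆ {w, -w} := fun u _ => by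
      rcases eq_or_ne u w with rfl | hu
      · simp
      · simp [hall u hu]
    have h2 := (Finset.card_le_card h1).trans Finset.card_le_two
    rw [Finset.card_univ, ZMod.card_units] at h2
    omega
  have honer : one ∉ Set.range ν₁ := by
    rintro ⟨u, hu⟩
    obtain ⟨z, hz⟩ : ∃ z : (ZMod p)ˣ, u⁻¹ * z ∉ C.E (C.oneVc : C.V → ℂ) := by
      refine ⟨u * (w⁻¹ * u₀), fun h => ?_⟩
      rw [inv_mul_cancel_left, C.mem_E_iff hV hact hneg, inv_mul_eq_one, inv_mul_eq_iff_eq_mul,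
        mul_neg, mul_one] at h
      rcases h with h | h
      · exact hu₀ h.symm
      · exact hu₀' h
    have h := hD₁.bI_exc u z
    rw [hu, honeb, if_neg hz] at h
    exact one_ne_zero h
  have honeab : one = χa₁ ∨ one = χb₁ :=
    (hL₁ one).1 ⟨⟨1, by rw [honeb]; exact one_ne_zero⟩, honer⟩
  obtain ⟨χ', hχ'ne, hχ'L, hF₁⟩ : ∃ χ', χ' ≠ one ∧ (C.Lies χ' C.oneVc ∧ χ' ∉ Set.range ν₁) ∧
      ∀ (c rc : ℤ), C.bI χ' C.oneVc 1 = c → (χ' : G → ℂ) s = rc →
        1 + c * deg (χ' : G → ℂ) = δ₁ * deg (ν₁ 1 : G → ℂ) ∧ 1 + c * rc = δ₁ * r₁ ∧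
        ∑ χ ∈ Finset.univ.filter (fun χ => C.Lies χ C.oneVc), C.term s χ =
          ((1 + (c : ℚ) * rc ^ 2 / deg (χ' : G → ℂ) -
            (δ₁ : ℚ) * r₁ ^ 2 / deg (ν₁ 1 : G → ℂ) : ℚ) : ℂ) := by
    have hb1 : C.bI one C.oneVc 1 = 1 := by simpa using honeb 1
    have hs1 : (one : G → ℂ) s = ((1 : ℤ) : ℂ) := by rw [hone1, Int.cast_one]
    have hd1 : deg (one : G → ℂ) = 1 := by
      apply Nat.cast_injective (R := ℂ)
      rw [← irr_apply_one_eq_deg, hone1, Nat.cast_one]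
    rcases honeab with e | e
    · refine ⟨χb₁, fun e' => hne₁ (e.symm.trans e'.symm), (hL₁ _).2 (Or.inr rfl), fun c rc hc hrc => ?_⟩
      obtain ⟨h1, h2, h3⟩ := hev₁ 1 c 1 rc (e ▸ hb1) hc (e ▸ hs1) hrc
      rw [← e, hd1] at h1 h3
      norm_num at h1 h2 h3 ⊢
      exact ⟨h1, h2, h3⟩
    · refine ⟨χa₁, fun e' => hne₁ (e'.trans e), (hL₁ _).2 (Or.inl rfl), fun c rc hc hrc => ?_⟩
      obtain ⟨h1, h2, h3⟩ := hev₁ c 1 rc 1 hc (e ▸ hb1) hrc (e ▸ hs1)
      rw [← e, hd1] at h1 h3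
      refine ⟨?_, ?_, ?_⟩
      · push_cast at h1 ⊢; linarith
      · linarith
      · rw [h3]; push_cast; ring
  have hsd₁ := hD₁.sign_diff (χ := χ') ⟨hχ'L.1, hχ'L.2⟩
  obtain ⟨u₁, A₁, hA₁, -, hu₁, hm₁, hu₁s, -⟩ := C.ordinary_data hV hs hinv (by omega)
    (θ := C.oneVc) (χ := χ') (c := C.bI χ' C.oneVc 1) hsd₁ (hD₁.bI_ord χ' hχ'L.2)
  obtain ⟨e₁, e₁', hF₁'⟩ := hF₁ _ u₁ rfl hu₁s
  have hmpos : 0 < (deg (χ' : G → ℂ) : ℤ) := by exact_mod_cast deg_irr_pos χ'
  have hxpos : 0 < (deg (ν₁ 1 : G → ℂ) : ℤ) := by exact_mod_cast deg_irr_pos (ν₁ 1)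
  have hcδ : C.bI χ' C.oneVc 1 = δ₁ := by
    rcases hsd₁ with h | h <;> rcases hD₁.sign with h' | h' <;> rw [h, h'] <;> rw [h, h'] at e₁ <;>
      omega
  rw [hcδ] at e₁ e₁' hF₁' hm₁
  have hδ2 : δ₁ * δ₁ = 1 := by rcases hD₁.sign with h | h <;> simp [h]
  have hlow := DegreeSubTwo.principal_bound (δ := δ₁) (u := u₁) (m := (deg (χ' : G → ℂ) : ℤ))
    (x := (deg (ν₁ 1 : G → ℂ) : ℤ)) (r := r₁) (A := A₁) (B := B₁) hp hD₁.sign
    (by linear_combination (-δ₁) * e₁' + (u₁ - r₁) * hδ2)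
    (by linear_combination (-δ₁) * e₁ +
      ((deg (χ' : G → ℂ) : ℤ) - (deg (ν₁ 1 : G → ℂ) : ℤ)) * hδ2)
    hmpos hxpos hm₁ (hdν₁ 1) hu₁ hr₁
  -- the faithful side
  obtain ⟨ν, δ, r, B, hD, -, hr1, hr2, hdν, χa, χb, hne, hL, hev⟩ :=
    C.eval_partial_sum hV hact hneg hs hinv hM hp θ
  obtain ⟨u, hu⟩ : ζ ∈ Set.range ν := by
    by_contra hr
    have h1 := hD.bI_ord ζ hr w
    have h2 := hD.bI_ord ζ hr u₀
    rw [hζb, if_pos (Or.inl rfl)] at h1
    rw [hζb, if_neg (by tauto), ← h1] at h2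
    exact zero_ne_one h2
  obtain rfl : δ = -1 := by
    have h := hD.bI_exc u w
    rw [hu, hζb, if_pos (Or.inl rfl)] at h
    split_ifs at h <;> omega
  have hBx := hdν u
  rw [hu] at hBx
  have hB1 : B = 1 := by
    have h1 : (p : ℤ) * B = p * 1 := by
      have : ((deg (ζ : G → ℂ) : ℤ)) + 2 = p := by exact_mod_cast hζd
      linarith
    have := mul_left_cancel₀ (by exact_mod_cast hpp.ne_zero : (p : ℤ) ≠ 0) h1
    exact_mod_cast this
  have hn : (deg (ν 1 : G → ℂ) : ℤ) = (p : ℤ) - 2 := by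
    rw [hdν 1, hB1]; push_cast; ring
  obtain ⟨χp, χm, hp1, hm1, hpL, hF⟩ : ∃ χp χm : IrrCharacter G,
      C.bI χp θ 1 = 1 ∧ C.bI χm θ 1 = -1 ∧ (C.Lies χp θ ∧ χp ∉ Set.range ν) ∧
      ∀ rp rm : ℤ, (χp : G → ℂ) s = rp → (χm : G → ℂ) s = rm →
        (deg (χm : G → ℂ) : ℤ) = deg (χp : G → ℂ) + ((p : ℤ) - 2) ∧ rm = rp + r ∧
        ∑ χ ∈ Finset.univ.filter (fun χ => C.Lies χ θ), C.term s χ =
          (((rp : ℚ) ^ 2 / deg (χp : G → ℂ) - (rm : ℚ) ^ 2 / deg (χm : G → ℂ) +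
            (r : ℚ) ^ 2 / deg (ν 1 : G → ℂ) : ℚ) : ℂ) := by
    have hab : ∀ χ, χ = χa ∨ χ = χb → C.bI χ θ 1 = 1 ∨ C.bI χ θ 1 = -1 := fun χ h =>
      hD.sign_diff ⟨((hL χ).2 h).1, ((hL χ).2 h).2⟩
    obtain ⟨ra, Aa, hAa, -, -, hma, hras, -⟩ := C.ordinary_data hV hs hinv (by omega) (θ := θ)
      (χ := χa) (c := C.bI χa θ 1) (hab _ (Or.inl rfl)) (hD.bI_ord χa ((hL χa).2 (Or.inl rfl)).2)
    obtain ⟨rb, Ab, hAb, -, -, hmb, hrbs, -⟩ := C.ordinary_data hV hs hinv (by omega) (θ := θ)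
      (χ := χb) (c := C.bI χb θ 1) (hab _ (Or.inr rfl)) (hD.bI_ord χb ((hL χb).2 (Or.inr rfl)).2)
    obtain ⟨h1, -, -⟩ := hev _ _ ra rb rfl rfl hras hrbs
    rw [hn] at h1
    have pa : 0 < (deg (χa : G → ℂ) : ℤ) := by exact_mod_cast deg_irr_pos χa
    have pb : 0 < (deg (χb : G → ℂ) : ℤ) := by exact_mod_cast deg_irr_pos χb
    rcases hab χa (Or.inl rfl) with ea | ea <;> rcases hab χb (Or.inr rfl) with eb | eb
    · rw [ea, eb] at h1
      exfalso; omega
    · refine ⟨χa, χb, ea, eb, (hL χa).2 (Or.inl rfl), fun rp rm hrp hrm => ?_⟩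
      obtain ⟨g1, g2, g3⟩ := hev 1 (-1) rp rm ea eb hrp hrm
      rw [hn] at g1
      refine ⟨by linarith, by linarith, ?_⟩
      rw [g3]; push_cast; ring
    · refine ⟨χb, χa, eb, ea, (hL χb).2 (Or.inr rfl), fun rp rm hrp hrm => ?_⟩
      obtain ⟨g1, g2, g3⟩ := hev (-1) 1 rm rp ea eb hrm hrp
      rw [hn] at g1
      refine ⟨by linarith, by linarith, ?_⟩
      rw [g3]; push_cast; ring
    · rw [ea, eb] at h1
      rw [ea] at hma
      rw [eb] at hmb
      exfalso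
      have : (0 : ℤ) ≤ p * (Aa : ℤ) := by positivity
      have : (0 : ℤ) ≤ p * (Ab : ℤ) := by positivity
      omega
  obtain ⟨rp, A, hA, hrp1, hrp2, hmp, hrps, -⟩ := C.ordinary_data hV hs hinv (by omega) (θ := θ)
    (χ := χp) (c := 1) (Or.inl rfl) fun z => (hD.bI_ord χp hpL.2 z).trans hp1
  obtain ⟨A', rfl⟩ : ∃ A', A = A' + 1 := ⟨A - 1, by omega⟩
  have hmp' : (deg (χp : G → ℂ) : ℤ) = p * A' + 1 := by rw [hmp]; push_cast; ring
  rcases Nat.eq_zero_or_pos A' with rfl | hA'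
  · -- a linear character of a perfect group
    have hd : (χp : G → ℂ) 1 = 1 := by
      rw [irr_apply_one_eq_deg]
      have : deg (χp : G → ℂ) = 1 := by exact_mod_cast (by simpa using hmp' : (deg (χp : G → ℂ) : ℤ) = 1)
      rw [this, Nat.cast_one]
    obtain ⟨f, hf⟩ := exists_hom_of_deg_one (isCharacter_of_irr χp.2) hd
    apply hinj
    rw [← C.omI_of_lies hV hpL.1, omI_apply, hd, div_one, hf]
    simp [hperf f]
  by_contra hv
  obtain ⟨rm, -, -, -, -, -, hrms, -⟩ : ∃ (r : ℤ) (a : ℕ), (-1 : ℤ) ≤ a ∧ -(a : ℤ) ≤ r ∧ r ≤ a ∧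
      (deg (χm : G → ℂ) : ℤ) = p * a - ((p : ℤ) - 1) * (-1) ∧ (χm : G → ℂ) s = r ∧
      C.term s χm = ((((-1 : ℤ) : ℚ) * r ^ 2 / deg (χm : G → ℂ) : ℚ) : ℂ) :=
    C.ordinary_data hV hs hinv (by omega) (θ := θ) (χ := χm) (c := -1) (Or.inr rfl) (by
      have hmr : χm ∉ Set.range ν := fun ⟨z, hz⟩ => by
        have := hD.bI_exc z 1
        rw [hz, Units.val_one, hm1] at this
        split_ifs at this <;> omega
      exact fun z => (hD.bI_ord χm hmr z).trans hm1)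
  obtain ⟨hmm, hrm, hFθ⟩ := hF rp rm hrps hrms
  have hup := DegreeSubTwo.faithful_bound (u := rp) (f := r) (m := (deg (χp : G → ℂ) : ℤ))
    (n := (p : ℤ) - 2) hp rfl hmp' hA' (by push_cast at hrp1; omega) (by push_cast at hrp2; omega)
    (by rw [hB1] at hr1; exact_mod_cast hr1) (by rw [hB1] at hr2; exact_mod_cast hr2)
  have k1 := C.card_mul_partial_sum hV hs hinv (by omega) hodd C.oneVc rfl
  have k2 := C.card_mul_partial_sum hV hs hinv (by omega) hodd θ hθ1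
  rw [← k1, hF₁', hFθ] at k2
  have k3 := Rat.cast_injective (mul_left_cancel₀ (Nat.cast_ne_zero.2 Nat.card_pos.ne') k2)
  have hrmq : (rm : ℚ) = ((rp + r : ℤ) : ℚ) := by exact_mod_cast hrm
  have hmmq : (deg (χm : G → ℂ) : ℚ) = (((deg (χp : G → ℂ) : ℤ) + ((p : ℤ) - 2) : ℤ) : ℚ) := by
    exact_mod_cast hmm
  have hnq : (deg (ν 1 : G → ℂ) : ℚ) = (((p : ℤ) - 2 : ℤ) : ℚ) := by exact_mod_cast hn
  rw [hrmq, hmmq, hnq] at k3
  rw [show ((deg (χ' : G → ℂ) : ℤ) : ℚ) = (deg (χ' : G → ℂ) : ℚ) from Int.cast_natCast _,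
    show ((deg (ν₁ 1 : G → ℂ) : ℤ) : ℚ) = (deg (ν₁ 1 : G → ℂ) : ℚ) from Int.cast_natCast _] at hlow
  rw [show ((deg (χp : G → ℂ) : ℤ) : ℚ) = (deg (χp : G → ℂ) : ℚ) from Int.cast_natCast _] at hup
  linarith

end Cfsg.Lib.Blocks.Cyc
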