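import Cfsg.Agent.Blocks.DegreeSubTwo.Reduction
import Cfsg.Agent.PermGroups.PrimeExceptional.Recognize

/-!
# The self-centralizing case: recognition of `SL(2, 2^a)`
-/

set_option autoImplicit false
set_option linter.unusedSectionVars false
set_option maxHeartbeats 1000000

namespace Cfsg.Lib.Blocks.DegreeSubTwo

open Cfsg.Lib.Chars
open Cfsg.Lib.PermGroups.PrimeExceptional (Setting)
open scoped ComplexConjugate Classical

universe u

variable {G : Type u} [Group G] [Fintype G] {p : ℕ} [Fact p.Prime]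

theorem mem_zpowers_of_V_trivial (C : Cyc G p) (hV1 : ∀ v : C.V, v = 1) {g : G}
    (hg : Commute g C.y) : g ∈ Subgroup.zpowers C.y := by
  obtain ⟨i, v, rfl⟩ := C.exists_el (Subgroup.mem_centralizer_singleton_iff.2 hg)
  rw [hV1 v, C.el_one_right]
  exact C.mem_zpowers_iff.2 ⟨i, rfl⟩

theorem card_normalizer (C : Cyc G p) (hp : 3 ≤ p) (hV1 : ∀ v : C.V, v = 1)
    (hact : ∀ h : C.H, C.act h = 1 ∨ C.act h = -1) (hneg : ∃ h : C.H, C.act h = -1) :
    Nat.card (Subgroup.normalizer ((Subgroup.zpowers C.y : Subgroup G) : Set G)) = 2 * p := by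
  have hinjact : Function.Injective C.act := (injective_iff_map_eq_one C.act).2 fun h hh =>
    congrArg Subtype.val (hV1 ⟨h, hh⟩)
  obtain ⟨h₀, hh₀⟩ := hneg
  have hne : h₀ ≠ 1 := fun e => by
    rw [e, map_one] at hh₀
    have h1 : (1 : ZMod p) = -1 := by
      have := congrArg Units.val hh₀
      rwa [Units.val_neg, Units.val_one] at this
    have e2 : ((2 : ℕ) : ZMod p) = 0 := by push_cast; linear_combination h1
    have := Nat.le_of_dvd two_pos ((ZMod.natCast_eq_zero_iff 2 p).1 e2)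
    omega
  have hH : Nat.card C.H = 2 := by
    rw [Nat.card_eq_two_iff]
    refine ⟨1, h₀, hne.symm, Set.eq_univ_iff_forall.2 fun h => ?_⟩
    rcases hact h with e | e
    · exact Or.inl (hinjact (e.trans (map_one _).symm))
    · exact Or.inr (hinjact (e.trans hh₀.symm))
  let f : ZMod p × C.H → Subgroup.normalizer ((Subgroup.zpowers C.y : Subgroup G) : Set G) :=
    fun x => ⟨C.yP x.1 * (x.2 : G), mul_mem (C.yP_mem_norm _) (C.le_norm x.2.2)⟩
  have hf : Function.Bijective f := by
    constructor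
    · rintro ⟨i, h⟩ ⟨j, h'⟩ e
      have e1 : C.yP i * (h : G) = C.yP j * (h' : G) := congrArg Subtype.val e
      have e2 : C.yP (-j + i) = ((h' * h⁻¹ : C.H) : G) := by
        rw [Subgroup.coe_mul, Subgroup.coe_inv, C.yP_add, eq_mul_inv_iff_mul_eq, mul_assoc, e1,
          ← mul_assoc, ← C.yP_add, neg_add_cancel, C.yP_zero, one_mul]
      have e3 : (Nat.card C.H : ZMod p) * (-j + i) = 0 := by
        apply C.yP_injective
        rw [← C.yP_pow, e2, C.yP_zero, ← SubmonoidClass.coe_pow, pow_card_eq_one', OneMemClass.coe_one]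
      have e4 : i = j := by
        have := (mul_eq_zero.1 e3).resolve_left C.card_cast_ne_zero
        linear_combination this
      subst e4
      exact Prod.ext rfl (Subtype.ext (mul_left_cancel e1))
    · rintro ⟨g, hg⟩
      obtain ⟨i, h, hh, rfl⟩ := C.decomp g hg
      exact ⟨((i : ZMod p), ⟨h, hh⟩), Subtype.ext (by simp [f, C.yP_natCast])⟩
  rw [← Nat.card_congr (Equiv.ofBijective f hf), Nat.card_prod, Nat.card_zmod, hH, mul_comm]

/-- A faithful character of degree `p - 2` forces minimal normal subgroups to contain `y`. -/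
theorem eq_bot_of_normal (C : Cyc G p) {χ : G → ℂ} (hχ : Cfsg.IsCharacter G χ)
    (hfaith : ∀ g, χ g = χ 1 → g = 1) (hd : deg χ + 2 ≤ p) (hV1 : ∀ v : C.V, v = 1)
    (K : Subgroup G) (hK : K.Normal) (hy : C.y ∉ K) : K = ⊥ := by
  have hp := (Fact.out : p.Prime)
  have hgen : ∀ i : ZMod p, C.yP i ∈ K → i = 0 := by
    intro i hi
    by_contra hi0
    apply hy
    have h1 := Subgroup.pow_mem K hi i⁻¹.val
    rwa [C.yP_pow, ZMod.natCast_zmod_val, inv_mul_cancel₀ hi0, C.yP_one] at h1
  set L := K ⊔ Subgroup.zpowers C.y with hL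
  have : Fintype L := Fintype.ofFinite L
  have hyL : C.y ∈ L := Subgroup.mem_sup_right (Subgroup.mem_zpowers _)
  obtain ⟨D, hD⟩ := exists_cyc_zpowers (G := L) (y := ⟨C.y, hyL⟩)
    (by rw [← Subgroup.orderOf_coe]; exact C.order)
    (fun h => C.sq (h.trans (Subgroup.card_subgroup_dvd_card L)))
  have hmem : ∀ j, ((D.yP j : L) : G) ∈ Subgroup.zpowers C.y := by
    intro j
    obtain ⟨k, hk⟩ := Subgroup.mem_zpowers_iff.1 (hD ▸ D.mem_zpowers_iff.2 ⟨j, rfl⟩ :
      D.yP j ∈ Subgroup.zpowers (⟨C.y, hyL⟩ : L))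
    rw [← hk]
    exact Subgroup.zpow_mem _ (Subgroup.mem_zpowers _) _
  have hactD : ∀ h : D.H, D.act h = 1 := by
    intro h
    let π := QuotientGroup.mk' K
    have hz : ∀ g : L, π (g : G) ∈ Subgroup.zpowers (π C.y) := fun g => by
      have h1 : π (g : G) ∈ (K ⊔ Subgroup.zpowers C.y).map π := ⟨_, g.2, rfl⟩
      rw [Subgroup.map_sup, QuotientGroup.map_mk'_self, bot_sup_eq, MonoidHom.map_zpowers] at h1
      exact h1
    have hc : ((h : L) : G) * ((D.yP 1 : L) : G) * ((h : L) : G)⁻¹ * ((D.yP 1 : L) : G)⁻¹ ∈ K := by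
      rw [← QuotientGroup.eq_one_iff]
      obtain ⟨a, ha⟩ := Subgroup.mem_zpowers_iff.1 (hz (h : L))
      obtain ⟨b, hb⟩ := Subgroup.mem_zpowers_iff.1 (hz (D.yP 1))
      show π _ = 1
      rw [map_mul, map_mul, map_mul, map_inv, map_inv, ← ha, ← hb, ← zpow_neg, ← zpow_neg,
        ← zpow_add, ← zpow_add, ← zpow_add]
      simp
    have hconj := congrArg Subtype.val (D.conj_yP h 1)
    rw [mul_one, Subgroup.coe_mul, Subgroup.coe_mul, Subgroup.coe_inv] at hconj
    rw [hconj, ← Subgroup.coe_inv, ← D.yP_neg, ← Subgroup.coe_mul, ← D.yP_add] at hc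
    obtain ⟨i, hi⟩ := C.mem_zpowers_iff.1 (hmem ((D.act h : ZMod p) + -1))
    rw [← hi] at hc
    rw [hgen i hc, C.yP_zero, ← OneMemClass.coe_one L] at hi
    have h2 : D.yP ((D.act h : ZMod p) + -1) = D.yP 0 := by
      rw [D.yP_zero]; exact Subtype.ext hi.symm
    apply Units.ext
    rw [Units.val_one]
    linear_combination D.yP_injective h2
  have hdegL : deg (fun g : L => χ g) = deg χ := by
    unfold deg
    rfl
  have hcent := y_mem_center_of_act_trivial D (IsCharacter.restrict hχ L)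
    (fun g hg => Subtype.ext (hfaith g (by simpa using hg))) (by omega) hactD
  refine (Subgroup.eq_bot_iff_forall K).2 fun k hk => ?_
  have hkL : k ∈ L := Subgroup.mem_sup_left hk
  have h1 : Commute (⟨k, hkL⟩ : L) ⟨C.y, hyL⟩ := by
    obtain ⟨n, hn⟩ := Subgroup.mem_zpowers_iff.1 (hD.symm ▸ Subgroup.mem_zpowers (⟨C.y, hyL⟩ : L) :
      (⟨C.y, hyL⟩ : L) ∈ Subgroup.zpowers D.y)
    rw [← hn]
    have hcm : Commute (⟨k, hkL⟩ : L) D.y := Subgroup.mem_center_iff.1 hcent ⟨k, hkL⟩
    exact hcm.zpow_right n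
  obtain ⟨i, rfl⟩ := C.mem_zpowers_iff.1
    (mem_zpowers_of_V_trivial C hV1 (g := k) (congrArg Subtype.val h1.eq))
  rw [hgen i hk, C.yP_zero]

/-- Recognition in the self-centralizing case. -/
theorem exists_iso_sl_self (C : Cyc G p) (hp : 5 < p) (hV1 : ∀ v : C.V, v = 1)
    (hact : ∀ h : C.H, C.act h = 1 ∨ C.act h = -1) (hneg : ∃ h : C.H, C.act h = -1)
    (ζ : IrrCharacter G) (hfaith : ∀ g, (ζ : G → ℂ) g = (ζ : G → ℂ) 1 → g = 1)
    (hd : deg (ζ : G → ℂ) + 2 = p) (w : (ZMod p)ˣ)
    (hval : ∀ i : ZMod p, (ζ : G → ℂ) (C.yP i) = (if i = 0 then (p : ℂ) else 0) -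
      (psi p ((w : ZMod p) * i) + psi p (-((w : ZMod p) * i)))) :
    ∃ (a : ℕ) (F : Type) (_ : Field F) (_ : Fintype F), p = 2 ^ a + 1 ∧ Fintype.card F = 2 ^ a ∧
      Nonempty (G ≃* Matrix.SpecialLinearGroup (Fin 2) F) := by
  have hpp := (Fact.out : p.Prime)
  let h : Setting G p :=
    { t := C.y, order := C.order, odd := by omega, cent := fun g hg => mem_zpowers_of_V_trivial C hV1 hg,
      normCard := card_normalizer C (by omega) hV1 hact hneg }
  -- coordinates
  set c : ZMod p := (h.coordEquiv ⟨C.y, Subgroup.mem_zpowers _⟩).toAdd with hc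
  have hcoord : ∀ i : ZMod p, ∀ hi : C.yP i ∈ h.P, (h.coordEquiv ⟨C.yP i, hi⟩).toAdd = i * c := by
    intro i hi
    rw [show (⟨C.yP i, hi⟩ : h.P) = (⟨C.y, Subgroup.mem_zpowers _⟩ : h.P) ^ i.val from
      Subtype.ext (by rw [SubmonoidClass.coe_pow]; rfl), map_pow, toAdd_pow, nsmul_eq_mul,
      ZMod.natCast_zmod_val]
  have hc0 : c ≠ 0 := fun e => by
    have h1 : h.coordEquiv ⟨C.y, Subgroup.mem_zpowers _⟩ = 1 :=
      Multiplicative.toAdd.injective (by rw [← hc, e, toAdd_one])
    rw [← map_one h.coordEquiv, h.coordEquiv.injective.eq_iff] at h1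
    have := congrArg (fun x : h.P => orderOf (x : G)) h1
    simp only [OneMemClass.coe_one, orderOf_one, C.order] at this
    exact hpp.ne_one this
  set u : ZMod p := (w : ZMod p) * c⁻¹ with hu
  have hu0 : u ≠ 0 := mul_ne_zero w.ne_zero (inv_ne_zero hc0)
  have hζP : ∀ y : h.P, (ζ : G → ℂ) y = ∑ k : ZMod p, h.E k y - (h.E u y + h.E (-u) y) := by
    intro y
    obtain ⟨i, hi⟩ := C.mem_zpowers_iff.1 y.2
    obtain ⟨yv, hyv⟩ := y
    subst hi
    rw [h.sum_E, hval]
    simp only [h.E_apply, hcoord i _, hu]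
    rw [show (w : ZMod p) * c⁻¹ * (i * c) = (w : ZMod p) * i by field_simp,
      show -((w : ZMod p) * c⁻¹) * (i * c) = -((w : ZMod p) * i) by field_simp]
    congr 1
    have hiff : ((⟨C.yP i, hyv⟩ : h.P) = 1) ↔ i = 0 :=
      ⟨fun e => C.yP_injective ((congrArg Subtype.val e).trans C.yP_zero.symm),
        fun e => Subtype.ext (by simp [e])⟩
    simp only [hiff]
  have hζI : ∀ l, l ≠ 0 → Cfsg.classInner (ζ : G → ℂ) (h.I l) = if l = u ∨ l = -u then 1 else 0 := by
    intro l hl
    rw [Setting.I, frobenius_reciprocity' _ _ (isClassFunction_irr ζ), Setting.θ, classInner_sub_right]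
    have hk : ∀ k, Cfsg.classInner (fun y : h.P => (ζ : G → ℂ) y) (⇑(h.E k)) =
        1 - ((if u = k then 1 else 0) + if -u = k then 1 else 0) := by
      intro k
      rw [show (fun y : h.P => (ζ : G → ℂ) y) = (∑ j : ZMod p, ⇑(h.E j)) - (⇑(h.E u) + ⇑(h.E (-u)))
        from funext fun y => by rw [hζP y]; simp, classInner_sub_left, classInner_add_left,
        classInner_sum_left]
      simp only [h.classInner_E, Finset.sum_ite_eq', Finset.mem_univ, if_true]
    rw [hk, hk, if_neg hu0, if_neg (neg_ne_zero.2 hu0)]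
    by_cases a : l = u
    · rw [if_pos (Or.inl a), if_pos a.symm, if_neg (fun e : -u = l => h.neg_ne hu0 (e.trans a))]; ring
    by_cases b : l = -u
    · rw [if_pos (show l = u ∨ l = -u from Or.inr b), if_neg (Ne.symm a), if_pos b.symm]; ring
    · rw [if_neg (show ¬(l = u ∨ l = -u) by tauto), if_neg (Ne.symm a), if_neg (Ne.symm b)]; ring
  obtain ⟨ε, δ, θ, μ, hε, hδ, hθ1, hμ, hinj⟩ := h.exists_coherent (by omega)
  have hζne : ζ ≠ principal G := fun e => by
    have h1 : deg (ζ : G → ℂ) = 1 := by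
      apply Nat.cast_injective (R := ℂ)
      rw [← irr_apply_one_eq_deg, e, Nat.cast_one]
      rfl
    omega
  have hsum : ∀ (χ : IrrCharacter G) (l : ZMod p), l ≠ 0 → Cfsg.classInner (χ : G → ℂ) (h.I l) =
      (if χ = principal G then 1 else 0) + (ε : ℂ) * (if χ = θ then 1 else 0) +
        (δ : ℂ) * (if χ = μ l then 1 else 0) := by
    intro χ l hl
    rw [(hμ l hl).2.2, show (fun _ : G => (1 : ℂ)) = (principal G : G → ℂ) from rfl,
      classInner_add_right, classInner_add_right, classInner_smul_right, classInner_smul_right,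
      map_intCast, map_intCast, classInner_irrCharacter, classInner_irrCharacter,
      classInner_irrCharacter]
  obtain ⟨hζθ, hζμ, hδ1⟩ : ζ ≠ θ ∧ ζ = μ u ∧ δ = 1 := by
    have h1 := hsum ζ u hu0
    rw [hζI u hu0, if_pos (Or.inl rfl), if_neg hζne, zero_add] at h1
    have hne : ζ ≠ θ := by
      intro e
      obtain ⟨l, hl0, hlu, hlu'⟩ : ∃ l : ZMod p, l ≠ 0 ∧ l ≠ u ∧ l ≠ -u := by
        by_contra hall
        push Not at hall
        have h2 : (Finset.univ : Finset (ZMod p)) ⊆ {0, u, -u} := fun l _ => by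
          by_cases a : l = 0
          · simp [a]
          by_cases b : l = u
          · simp [b]
          · simp [hall l a b]
        have h3 := (Finset.card_le_card h2).trans Finset.card_le_three
        rw [Finset.card_univ, ZMod.card] at h3
        omega
      have h2 := hsum ζ l hl0
      rw [hζI l hl0, if_neg (show ¬(l = u ∨ l = -u) by tauto), if_neg hζne, zero_add, if_pos e, mul_one,
        if_neg (fun e' : ζ = μ l => (hμ l hl0).1 (e'.symm.trans e)), mul_zero, add_zero] at h2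
      rcases hε with rfl | rfl <;> norm_num at h2
    rw [if_neg hne, mul_zero, zero_add] at h1
    by_cases e : ζ = μ u
    · rw [if_pos e, mul_one] at h1
      exact ⟨hne, e, by exact_mod_cast h1.symm⟩
    · rw [if_neg e, mul_zero] at h1
      exact absurd h1 one_ne_zero
  subst hδ1
  have hn : (ζ : G → ℂ) 1 = ((p - 2 : ℕ) : ℂ) := by
    rw [irr_apply_one_eq_deg, show deg (ζ : G → ℂ) = p - 2 by omega]
  have hrel : ∀ l, l ≠ 0 → ∀ g, ¬h.Sing g →
      1 + (ε : ℂ) * (θ : G → ℂ) g + (μ l : G → ℂ) g = 0 := by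
    intro l hl g hg
    have e := congrFun (hμ l hl).2.2 g
    rw [Setting.I, h.indFun_nonsing _ (h.θ_one _) hg] at e
    simp only [Pi.add_apply, Pi.smul_apply, smul_eq_mul, Int.cast_one, one_mul] at e
    exact e.symm
  have hns1 : ¬h.Sing 1 := fun e => e.1 rfl
  have hdμ : ∀ l, l ≠ 0 → (μ l : G → ℂ) 1 = ((p - 2 : ℕ) : ℂ) := fun l hl => by
    have e1 := hrel l hl 1 hns1
    have e2 := hrel u hu0 1 hns1
    rw [← hζμ, hn] at e2
    linear_combination e1 - e2
  have hε1 : ε = -1 := by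
    refine hε.resolve_left fun e => ?_
    have e2 := hrel u hu0 1 hns1
    rw [← hζμ, hn, e, irr_apply_one_eq_deg] at e2
    have h0 : ((1 + deg (θ : G → ℂ) + (p - 2) : ℕ) : ℂ) = ((0 : ℕ) : ℂ) := by
      push_cast at e2 ⊢
      linear_combination e2
    have := Nat.cast_inj.1 h0
    omega
  subst hε1
  have hneg' : ∀ l : ZMod p, l ≠ 0 → μ (-l) = μ l := by
    intro l hl
    by_contra hne
    have h1 := hsum (μ l) l hl
    have h2 := hsum (μ l) (-l) (neg_ne_zero.2 hl)
    have hI : h.I (-l) = h.I l := by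
      have := h.A_neg l
      simp only [Setting.A] at this
      exact sub_left_injective this
    rw [hI] at h2
    rw [h2, if_neg (hμ l hl).2.1, if_neg (hμ l hl).1, if_pos rfl, if_neg (Ne.symm hne)] at h1
    norm_num at h1
  refine h.exists_iso_sl (θ := θ) (μ := μ) (fun l hl => ⟨(hμ l hl).2.1, hdμ l hl,
    fun g hg => by have := hrel l hl g hg; push_cast at this; linear_combination this,
    fun y hy => ?_, ?_⟩) hinj hp fun K hK hKt => eq_bot_of_normal C (isCharacter_of_irr ζ.2) hfaith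
      (by omega) hV1 K hK hKt
  · rw [h.restrict_eq (isClassFunction_irr (μ l)) (fun k => if k = l ∨ k = -l then 1 else 0)
      (by rw [if_neg]; rintro (e | e); exacts [hl e.symm, hl (neg_eq_zero.1 e.symm)])
      (fun k hk => by
        rw [hsum (μ l) k hk, if_neg (hμ l hl).2.1, if_neg (hμ l hl).1]
        by_cases hkl : k = l ∨ k = -l
        · rw [if_pos hkl, if_pos (by rcases hkl with rfl | rfl; exacts [rfl, (hneg' l hl).symm])]
          push_cast; ring
        · rw [if_neg hkl, if_neg fun e => hkl (hinj k l hk hl e.symm)]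
          push_cast; ring) y,
      if_neg (fun e => hy (by rw [e]; rfl)), zero_sub]
    congr 1
    rw [← Finset.sum_subset (Finset.subset_univ {l, -l}) fun k _ hk => by
      simp only [Finset.mem_insert, Finset.mem_singleton] at hk
      rw [if_neg hk, zero_mul], Finset.sum_pair (h.neg_ne hl).symm, if_pos (Or.inl rfl),
      if_pos (Or.inr rfl)]
    ring
  · rw [(hμ l hl).2.2]
    simp [sub_eq_add_neg]

end Cfsg.Lib.Blocks.DegreeSubTwo
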